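import Cfsg.Agent.Lib.CG.Big2

/-! Double coset enumeration: packed words, images of point lists, tail vectors, token words. -/

set_option autoImplicit false

namespace Cfsg.Agent.DC
open Cfsg.Agent.CG

/-! ### Packed words -/

/-- The number of letters of a packed word (digits in base `256` below a leading `1`). -/
abbrev plen (w : ℕ) : ℕ := Nat.shiftRight (Nat.log2 w) 3

/-- The value of the lowest `n` digits, the lowest digit being the rightmost letter. -/
def pwF {G : Type*} [Monoid G] (gen : ℕ → G) : ℕ → ℕ → G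
  | 0, _ => 1
  | n + 1, w => pwF gen n (Nat.shiftRight w 8) * gen (Nat.land w 255)

/-- The value of a packed word. -/
def pw {G : Type*} [Monoid G] (gen : ℕ → G) (w : ℕ) : G := pwF gen (plen w) w

theorem pw_one {G : Type*} [Monoid G] (gen : ℕ → G) : pw gen 1 = 1 := rfl

theorem pw_letter {G : Type*} [Monoid G] (gen : ℕ → G) {a : ℕ} (h : a < 256) : pw gen (256 + a) = gen a := by
  have h1 : plen (256 + a) = 1 := by
    have : Nat.log2 (256 + a) = 8 := by
      rw [Nat.log2_eq_log_two]
      exact Nat.log_eq_of_pow_le_of_lt_pow (by omega) (by omega)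
    unfold plen; rw [this]; rfl
  have h2 : Nat.land (256 + a) 255 = a := by
    have := Nat.and_two_pow_sub_one_eq_mod (256 + a) 8
    change (256 + a) &&& 255 = a
    rw [show (255 : ℕ) = 2 ^ 8 - 1 from rfl, this]; omega
  unfold pw; rw [h1, pwF, pwF, h2, one_mul]

/-- Map over a list, evaluating the entries. -/
noncomputable def mapF (g : ℕ → ℕ) (l : List ℕ) (k : List ℕ → Bool) : Bool :=
  List.rec (motive := fun _ => (List ℕ → Bool) → Bool) (fun k => k [])
    (fun x _ ih k => force (g x) fun y => ih fun l' => k (y :: l')) l k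

theorem mapF_eq (g : ℕ → ℕ) (l : List ℕ) (k : List ℕ → Bool) : mapF g l k = k (l.map g) := by
  induction l generalizing k with
  | nil => rfl
  | cons x l ih =>
    have : mapF g (x :: l) k = force (g x) fun y => mapF g l fun l' => k (y :: l') := rfl
    rw [this, force_eq, ih]; rfl

/-- Apply a packed word to a list of points. -/
noncomputable def apW (app : ℕ → ℕ → ℕ) (w : ℕ) (l : List ℕ) (k : List ℕ → Bool) : Bool :=
  Nat.rec (motive := fun _ => ℕ → List ℕ → Bool) (fun _ l => k l)
    (fun _ ih w l => force (Nat.land w 255) fun a => force (Nat.shiftRight w 8) fun w' =>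
      mapF (app a) l fun l' => ih w' l') (plen w) w l

/-- Apply the inverse of a packed word to a list of points. -/
noncomputable def apI (app : ℕ → ℕ → ℕ) (iv : ℕ → ℕ) (w : ℕ) (l : List ℕ) (k : List ℕ → Bool) : Bool :=
  Nat.rec (motive := fun _ => ℕ → (List ℕ → Bool) → Bool) (fun _ k => k l)
    (fun _ ih w k => force (iv (Nat.land w 255)) fun a => force (Nat.shiftRight w 8) fun w' =>
      ih w' fun l' => mapF (app a) l' k) (plen w) w k

/-- Apply a packed word (`s = 0`) or its inverse. -/
noncomputable def apS (app : ℕ → ℕ → ℕ) (iv : ℕ → ℕ) (s w : ℕ) (l : List ℕ) (k : List ℕ → Bool) : Bool :=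
  Nat.rec (motive := fun _ => Bool) (apW app w l k) (fun _ _ => apI app iv w l k) s

/-- Apply a word given as a list of letters. -/
noncomputable def apL (app : ℕ → ℕ → ℕ) (w : List ℕ) (l : List ℕ) (k : List ℕ → Bool) : Bool :=
  List.rec (motive := fun _ => (List ℕ → Bool) → Bool) (fun k => k l)
    (fun a _ ih k => ih fun l' => mapF (app a) l' k) w k

/-- An element or its inverse. -/
def sg {G : Type*} [Group G] (s : ℕ) (g : G) : G := if s = 0 then g else g⁻¹

section PL
variable {G X : Type*} [Group G] [MulAction G X] (A : Act G X)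

/-- `l` lists the images of the points of `B` under `g`. -/
def PL (B : List ℕ) (g : G) (l : List ℕ) : Prop :=
  List.Forall₂ (fun b y => A.ok y ∧ g • A.pt b = A.pt y) B l

variable {A}

theorem PL.one {B : List ℕ} (h : ∀ b ∈ B, A.ok b) : PL A B 1 B := by
  induction B with
  | nil => exact List.Forall₂.nil
  | cons b B ih => exact List.Forall₂.cons ⟨h b (by simp), one_smul _ _⟩ (ih fun c hc => h c (by simp [hc]))

theorem PL.map {B l : List ℕ} {g : G} (h : PL A B g l) (a : ℕ) : PL A B (A.gen a * g) (l.map (A.app a)) := by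
  induction h with
  | nil => exact List.Forall₂.nil
  | cons h1 _ ih =>
    exact List.Forall₂.cons ⟨A.ok_app a _ h1.1, by rw [mul_smul, h1.2, A.smul_pt a _ h1.1]⟩ ih

theorem PL.smul_eq {B l : List ℕ} {g h : G} (h1 : PL A B g l) (h2 : PL A B h l) :
    ∀ b ∈ B, g • A.pt b = h • A.pt b := by
  induction h1 with
  | nil => simp
  | cons a1 _ ih =>
    cases h2 with
    | cons b1 b2 =>
      intro c hc
      rcases List.mem_cons.1 hc with rfl | hc
      · rw [a1.2, b1.2]
      · exact ih b2 c hc

theorem PL.eq {B l : List ℕ} (hB : A.IsBase B) {g h : G} (h1 : PL A B g l) (h2 : PL A B h l) : g = h :=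
  hB.eq (h1.smul_eq h2)

theorem apW_spec {B l : List ℕ} {g : G} (h : PL A B g l) {w : ℕ} {k : List ℕ → Bool}
    (e : apW A.app w l k = true) : ∃ l', PL A B (pw A.gen w * g) l' ∧ k l' = true := by
  unfold apW at e
  unfold pw
  generalize plen w = n at *
  induction n generalizing w l g with
  | zero => exact ⟨l, by simpa [pwF] using h, e⟩
  | succ n ih =>
    simp only [force_eq, mapF_eq] at e
    obtain ⟨l', h1, h2⟩ := ih (h.map (Nat.land w 255)) (by simpa only [force_eq, mapF_eq] using e)
    exact ⟨l', by rwa [pwF, mul_assoc], h2⟩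

theorem apI_spec {iv : ℕ → ℕ} (hiv : ∀ a, A.gen (iv a) = (A.gen a)⁻¹) {B l : List ℕ} {g : G} (h : PL A B g l)
    {w : ℕ} {k : List ℕ → Bool} (e : apI A.app iv w l k = true) :
    ∃ l', PL A B ((pw A.gen w)⁻¹ * g) l' ∧ k l' = true := by
  unfold apI at e
  unfold pw
  generalize plen w = n at *
  induction n generalizing w k with
  | zero => exact ⟨l, by simpa [pwF] using h, e⟩
  | succ n ih =>
    simp only [force_eq, mapF_eq] at e
    obtain ⟨l', h1, h2⟩ := ih (w := Nat.shiftRight w 8) (k := fun l' => k (l'.map (A.app (iv (Nat.land w 255)))))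
      (by simpa only [force_eq, mapF_eq] using e)
    refine ⟨_, ?_, h2⟩
    have := h1.map (iv (Nat.land w 255))
    rwa [hiv, ← mul_assoc, ← mul_inv_rev] at this

theorem apS_spec {iv : ℕ → ℕ} (hiv : ∀ a, A.gen (iv a) = (A.gen a)⁻¹) {B l : List ℕ} {g : G} (h : PL A B g l)
    {s w : ℕ} {k : List ℕ → Bool} (e : apS A.app iv s w l k = true) :
    ∃ l', PL A B (sg s (pw A.gen w) * g) l' ∧ k l' = true := by
  cases s with
  | zero => exact apW_spec h e
  | succ s => exact apI_spec hiv h e

theorem apL_spec {B l : List ℕ} {g : G} (h : PL A B g l) {w : List ℕ} {k : List ℕ → Bool}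
    (e : apL A.app w l k = true) : ∃ l', PL A B (ev A.gen w * g) l' ∧ k l' = true := by
  induction w generalizing k with
  | nil => exact ⟨l, by simpa using h, e⟩
  | cons a w ih =>
    have e' : apL A.app w l (fun l' => mapF (A.app a) l' k) = true := e
    obtain ⟨l', h1, h2⟩ := ih e'
    rw [mapF_eq] at h2
    exact ⟨_, by simpa [mul_assoc] using h1.map a, h2⟩

end PL

/-! ### Tail vectors -/

/-- Sum of vectors. -/
noncomputable def addV (v w : List ℤ) : List ℤ :=
  List.rec (motive := fun _ => List ℤ → List ℤ) (fun w => w)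
    (fun a v ih w => List.rec (motive := fun _ => List ℤ) (a :: v) (fun b w' _ => Int.add a b :: ih w') w) v w

/-- A multiple of a vector. -/
noncomputable def mulV (n : ℤ) (v : List ℤ) : List ℤ :=
  List.rec (motive := fun _ => List ℤ) [] (fun a _ ih => Int.mul n a :: ih) v

/-- A vector or its negative. -/
noncomputable def sgV (s : ℕ) (v : List ℤ) : List ℤ :=
  Nat.rec (motive := fun _ => List ℤ) v (fun _ _ => mulV (Int.negSucc 0) v) s

/-- An integer is zero. -/
noncomputable def isZ (a : ℤ) : Bool :=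
  Int.rec (motive := fun _ => Bool) (fun n => Nat.beq n 0) (fun _ => false) a

/-- Equality of vectors up to trailing zeros. -/
noncomputable def eqV (v w : List ℤ) : Bool := allL isZ (addV v (mulV (Int.negSucc 0) w))

section zv
variable {Γ : Type*} [Group Γ]

/-- The product of the powers `z (i + j) ^ v j`. -/
def zvF (z : ℕ → Γ) : ℕ → List ℤ → Γ
  | _, [] => 1
  | i, a :: v => z i ^ a * zvF z (i + 1) v

/-- The central element named by a vector. -/
def zv (z : ℕ → Γ) (v : List ℤ) : Γ := zvF z 0 v

@[simp] theorem zv_nil (z : ℕ → Γ) : zv z [] = 1 := rfl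

theorem zvF_mem {z : ℕ → Γ} {M : Subgroup Γ} (hz : ∀ i, z i ∈ M) (v : List ℤ) (i : ℕ) : zvF z i v ∈ M := by
  induction v generalizing i with
  | nil => exact one_mem _
  | cons a v ih => exact mul_mem (zpow_mem (hz i) a) (ih _)

theorem zv_mem {z : ℕ → Γ} {M : Subgroup Γ} (hz : ∀ i, z i ∈ M) (v : List ℤ) : zv z v ∈ M := zvF_mem hz v 0

theorem zv_one (v : List ℤ) : zv (fun _ => (1 : Γ)) v = 1 :=
  Subgroup.mem_bot.1 (zv_mem (fun _ => Subgroup.mem_bot.2 rfl) v)

theorem cm {a : Γ} (h : a ∈ Subgroup.center Γ) (b : Γ) : b * a = a * b := Subgroup.mem_center_iff.1 h b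

variable {z : ℕ → Γ} (hz : ∀ i, z i ∈ Subgroup.center Γ)
include hz

theorem zvF_add (v w : List ℤ) (i : ℕ) : zvF z i (addV v w) = zvF z i v * zvF z i w := by
  induction v generalizing w i with
  | nil => simp [addV, zvF]
  | cons a v ih =>
    cases w with
    | nil => simp [addV, zvF]
    | cons b w =>
      have : addV (a :: v) (b :: w) = (a + b) :: addV v w := rfl
      rw [this, zvF, zvF, zvF, ih, zpow_add, mul_assoc, mul_assoc, ← mul_assoc (zvF z (i + 1) v),
        cm (zpow_mem (hz i) b) (zvF z (i + 1) v), mul_assoc]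

theorem zv_add (v w : List ℤ) : zv z (addV v w) = zv z v * zv z w := zvF_add hz v w 0

theorem zvF_mul (n : ℤ) (v : List ℤ) (i : ℕ) : zvF z i (mulV n v) = zvF z i v ^ n := by
  induction v generalizing i with
  | nil => simp [mulV, zvF]
  | cons a v ih =>
    have : mulV n (a :: v) = (n * a) :: mulV n v := rfl
    rw [this, zvF, zvF, ih, Commute.mul_zpow, mul_comm n a, zpow_mul]
    exact (cm (zpow_mem (hz i) a) _).symm

theorem zv_mul (n : ℤ) (v : List ℤ) : zv z (mulV n v) = zv z v ^ n := zvF_mul hz n v 0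

theorem zv_sg (s : ℕ) (v : List ℤ) : zv z (sgV s v) = sg s (zv z v) := by
  cases s with
  | zero => rfl
  | succ s =>
    have : sgV (s + 1) v = mulV (Int.negSucc 0) v := rfl
    rw [this, zv_mul hz]; simp [sg]

omit hz in
theorem zvF_zero (v : List ℤ) (i : ℕ) (h : allL isZ v = true) : zvF z i v = 1 := by
  induction v generalizing i with
  | nil => rfl
  | cons a v ih =>
    have e : allL isZ (a :: v) = band (isZ a) (allL isZ v) := rfl
    rw [e, band_eq] at h
    have : a = 0 := by
      cases a with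
      | ofNat n => have := (beq_iff _ _).1 h.1; subst this; rfl
      | negSucc n => exact absurd h.1 (by simp [isZ])
    rw [zvF, ih _ h.2, this]; simp

theorem zv_eqV {v w : List ℤ} (h : eqV v w = true) : zv z v = zv z w := by
  have := zvF_zero (z := z) _ 0 h
  rw [zvF_add hz, zvF_mul hz] at this
  unfold zv
  simpa [mul_inv_eq_one] using this

end zv

/-! ### Token words -/

section tok
variable {H Γ : Type*} [Group H] [Group Γ] (gen : ℕ → H) (f : H →* Γ) (τ : ℕ → Γ)

/-- The extra letters and their inverses. -/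
def tk (t : ℕ) : Γ := sg (Nat.land t 1) (τ (Nat.shiftRight t 1))

/-- `1`, or an extra letter. -/
def tau : ℕ → Γ
  | 0 => 1
  | j + 1 => τ j

/-- Tokens below `256` are letters of the model, `256 + 2 j` is the extra letter `j`, `257 + 2 j` its inverse. -/
def tokv (a : ℕ) : Γ := if a < 256 then f (gen a) else tk τ (a - 256)

/-- The value of a list of segments. -/
def vs : List (ℕ × List ℕ) → Γ
  | [] => 1
  | s :: r => tk τ s.1 * f (ev gen s.2) * vs r

/-- Cut a token word at the extra letters. -/
def split : List ℕ → List ℕ × List (ℕ × List ℕ)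
  | [] => ([], [])
  | a :: w => if a < 256 then (a :: (split w).1, (split w).2) else ([], (a - 256, (split w).1) :: (split w).2)

theorem ev_split (w : List ℕ) : ev (tokv gen f τ) w = f (ev gen (split w).1) * vs gen f τ (split w).2 := by
  induction w with
  | nil => simp [split, vs]
  | cons a w ih =>
    rw [ev_cons, ih, split]
    by_cases h : a < 256
    · simp [h, tokv, mul_assoc]
    · simp [h, tokv, vs, mul_assoc]

/-- The inverse token. -/
def invTok (iv : ℕ → ℕ) (a : ℕ) : ℕ := if a < 256 then iv a else if a % 2 = 0 then a + 1 else a - 1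

theorem tk_even (j : ℕ) : tk τ (2 * j) = τ j := by
  have h1 : Nat.land (2 * j) 1 = 0 := by
    change (2 * j) &&& 1 = 0
    rw [Nat.and_one_is_mod]; omega
  have h2 : Nat.shiftRight (2 * j) 1 = j := by
    change (2 * j) >>> 1 = j
    rw [Nat.shiftRight_eq_div_pow]; omega
  rw [tk, h1, h2]; simp [sg]

theorem tk_odd (j : ℕ) : tk τ (2 * j + 1) = (τ j)⁻¹ := by
  have h1 : Nat.land (2 * j + 1) 1 = 1 := by
    change (2 * j + 1) &&& 1 = 1
    rw [Nat.and_one_is_mod]; omega
  have h2 : Nat.shiftRight (2 * j + 1) 1 = j := by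
    change (2 * j + 1) >>> 1 = j
    rw [Nat.shiftRight_eq_div_pow]; omega
  rw [tk, h1, h2]; simp [sg]

theorem tokv_inv {iv : ℕ → ℕ} (hiv : ∀ a, gen (iv a) = (gen a)⁻¹) (h256 : ∀ a, a < 256 → iv a < 256) (a : ℕ) :
    tokv gen f τ (invTok iv a) = (tokv gen f τ a)⁻¹ := by
  unfold invTok
  by_cases h : a < 256
  · simp [h, tokv, h256 a h, hiv]
  · by_cases h2 : a % 2 = 0
    · obtain ⟨j, rfl⟩ : ∃ j, a = 256 + 2 * j := ⟨(a - 256) / 2, by omega⟩
      have e1 : ¬ 256 + 2 * j + 1 < 256 := by omega
      have e2 : 256 + 2 * j + 1 - 256 = 2 * j + 1 := by omega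
      simp only [h, h2, tokv, if_false, if_true, e1, e2, Nat.add_sub_cancel_left, tk_even, tk_odd]
    · obtain ⟨j, rfl⟩ : ∃ j, a = 256 + (2 * j + 1) := ⟨(a - 256) / 2, by omega⟩
      have e1 : ¬ 256 + (2 * j + 1) - 1 < 256 := by omega
      have e2 : 256 + (2 * j + 1) - 1 - 256 = 2 * j := by omega
      simp only [h, h2, tokv, if_false, e1, e2, Nat.add_sub_cancel_left, tk_even, tk_odd, inv_inv]

/-- The inverse of a token word. -/
def invT (iv : ℕ → ℕ) (w : List ℕ) : List ℕ := (w.map (invTok iv)).reverse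

theorem ev_invT {iv : ℕ → ℕ} (hiv : ∀ a, gen (iv a) = (gen a)⁻¹) (h256 : ∀ a, a < 256 → iv a < 256)
    (w : List ℕ) : ev (tokv gen f τ) (invT iv w) = (ev (tokv gen f τ) w)⁻¹ := by
  induction w with
  | nil => simp [invT]
  | cons a w ih =>
    have : invT iv (a :: w) = invT iv w ++ [invTok iv a] := by simp [invT]
    rw [this, ev_append, ih, ev_singleton, tokv_inv gen f τ hiv h256, ev_cons, mul_inv_rev]

/-- Substitute token words (with tails) for tokens. -/
noncomputable def subT (sb : ℕ → List ℕ × List ℤ) : List ℕ → List ℕ × List ℤ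
  | [] => ([], [])
  | a :: w => ((sb a).1 ++ (subT sb w).1, addV (sb a).2 (subT sb w).2)

theorem ev_subT {z : ℕ → Γ} (hz : ∀ i, z i ∈ Subgroup.center Γ) {y y' : ℕ → Γ} {sb : ℕ → List ℕ × List ℤ}
    (h : ∀ a, y a = zv z (sb a).2 * ev y' (sb a).1) (w : List ℕ) :
    ev y w = zv z (subT sb w).2 * ev y' (subT sb w).1 := by
  induction w with
  | nil => simp [subT]
  | cons a w ih =>
    rw [ev_cons, ih, h a, subT, zv_add hz, ev_append, mul_assoc, mul_assoc, ← mul_assoc (ev y' (sb a).1),
      cm (zv_mem hz _) (ev y' (sb a).1), mul_assoc]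

end tok

end Cfsg.Agent.DC
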