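import Cfsg.Agent.Lib.DC.Basic

/-! Double coset enumeration: facts, walks and their soundness. -/

set_option autoImplicit false

namespace Cfsg.Agent.DC
open Cfsg.Agent.CG

/-- A fact with its proof. -/
structure Fact where
  hd : ℕ
  u : ℕ
  h : ℕ
  η : ℕ
  ops : ℕ
  v : List ℤ

/-- Kind: `0` coset fact, `1` commutation fact, `2` tail relation, `3` relator. -/
abbrev fkd (hd : ℕ) : ℕ := Nat.land hd 3
/-- Type of proof. -/
abbrev fpt (hd : ℕ) : ℕ := Nat.land (Nat.shiftRight hd 2) 3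
/-- The extra letter plus one, or zero. -/
abbrev feps (hd : ℕ) : ℕ := Nat.land (Nat.shiftRight hd 4) 255
/-- The rule. -/
abbrev frl (hd : ℕ) : ℕ := Nat.land (Nat.shiftRight hd 12) 65535
/-- The source node. -/
abbrev fe (hd : ℕ) : ℕ := Nat.land (Nat.shiftRight hd 28) 16777215
/-- The target node. -/
abbrev ft (hd : ℕ) : ℕ := Nat.shiftRight hd 52

/-- A rule: `ty = 0` a consequence of a relator, `1` an element of the left subgroup, `2` a word to be proved. -/
structure Rule where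
  ty : ℕ
  eps : ℕ
  v : List ℤ
  g0 : List ℕ
  segs : List (ℕ × List ℕ)
  ri : ℕ
  iv : Bool
  rot : ℕ
  sb : Bool

/-- Continuations of a walk. -/
abbrev KK : Type := ℕ → List ℕ → List ℕ → List ℤ → List ℕ → List ℕ → List (ℕ × List ℕ) → Bool

/-- `a` if `s = 0`, else `b`. -/
noncomputable def sel (s a b : ℕ) : ℕ := Nat.rec (motive := fun _ => ℕ) a (fun _ _ => b) s

section defs
variable (app : ℕ → ℕ → ℕ) (iv : ℕ → ℕ) (B : List ℕ) (ty : Bool) (facts : Tr Fact) (nd : ℕ → ℕ) (rules : Tr Rule)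

noncomputable def initD (s : List (ℕ × List ℕ)) (k : List ℕ → Bool) : Bool :=
  List.rec (motive := fun _ => Bool) (k B) (fun x _ _ => apL app x.2 B k) s

noncomputable def updE (s η : ℕ) (q : List ℕ) (k : List ℕ → Bool) : Bool :=
  Bool.rec (motive := fun _ => Bool) (k q)
    (Nat.rec (motive := fun _ => Bool) (apI app iv η q k) (fun _ _ => apW app η q k) s) ty

noncomputable def dcore (s0 t hd u h : ℕ) (w : List ℤ) (c d : List ℕ) (k : List ℕ → List ℕ → List ℤ → Bool) : Bool :=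
  band (Nat.beq (Nat.succ (Nat.shiftRight t 1)) (feps hd)) (force (Nat.land t 1) fun s =>
    apS app iv s0 (sel s u h) c fun c' => apS app iv s0 (sel s h u) d fun d' => k c' d' (sgV s0 (sgV s w)))

noncomputable def nstep (s hd u h η : ℕ) (w : List ℤ) (k : KK) : KK := fun e p q v c d r =>
  band (Nat.beq e (sel s (fe hd) (ft hd))) (apI app iv (sel s u h) p fun p1 => apW app (sel s h u) p1 fun p2 =>
    updE app iv ty s η q fun q' => force (sel s (ft hd) (fe hd)) fun e' => k e' p2 q' (addV v (sgV s w)) c d r)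

noncomputable def tstep (hd u h η : ℕ) (w : List ℤ) (k : KK) : KK := fun e p q v c d r =>
  List.rec (motive := fun _ => Bool) false (fun x r' _ => force x.1 fun t =>
    band (Nat.beq (Nat.succ (Nat.shiftRight t 1)) (feps hd)) (force (Nat.land t 1) fun s =>
      band (Nat.beq e (sel s (fe hd) (ft hd))) (apW app (sel s u h) c fun c1 => band (eqL c1 p)
        (apW app (sel s h u) d fun p2 => updE app iv ty s η q fun q' => initD app B r' fun d' =>
          force (sel s (ft hd) (fe hd)) fun e' => k e' p2 q' (addV v (sgV s w)) B d' r')))) r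

noncomputable def dstep (s0 hd u h : ℕ) (w : List ℤ) (k : KK) : KK := fun e p q v c d r =>
  List.rec (motive := fun _ => Bool) false (fun x r' _ => force x.1 fun t =>
    dcore app iv s0 t hd u h w c d fun c' d' dv => k e p q (addV v dv) c' d' (x :: r')) r

noncomputable def zstep (s m : ℕ) (w : List ℤ) (k : KK) : KK := fun e p q v c d r =>
  k e p q (addV v (mulV (Nat.rec (motive := fun _ => ℤ) (Int.ofNat (Nat.succ m)) (fun _ _ => Int.negSucc m) s) w)) c d r

noncomputable def fstep (s m : ℕ) (F : Fact) (k : KK) : KK := fun e p q v c d r =>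
  Fact.rec (motive := fun _ => Bool) (fun hd u h η _ w =>
    Nat.rec (motive := fun _ => Bool)
      (Nat.rec (motive := fun _ => Bool) (nstep app iv ty s hd u h η w k e p q v c d r)
        (fun _ _ => tstep app iv B ty hd u h η w k e p q v c d r) (feps hd))
      (fun n _ => Nat.rec (motive := fun _ => Bool) (dstep app iv s hd u h w k e p q v c d r)
        (fun n' _ => Nat.rec (motive := fun _ => Bool) (zstep s m w k e p q v c d r) (fun _ _ => false) n') n)
      (fkd hd)) F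

noncomputable def step (i op : ℕ) (k : KK) : KK := fun e p q v c d r =>
  force (Nat.land op 1) fun s =>
    Nat.rec (motive := fun _ => Bool) (band (bnot ty) (band (Nat.beq e 0) (k e B q v c d r)))
      (fun j _ => band (blt (Nat.succ j) i)
        (fstep app iv B ty s (Nat.shiftRight op 21) (facts.get (Nat.succ j)) k e p q v c d r))
      (Nat.land (Nat.shiftRight op 1) 1048575)

/-- The number of operations in a packed list. -/
abbrev nops (ops : ℕ) : ℕ := Nat.shiftRight (Nat.log2 ops) 5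

noncomputable def walk (i : ℕ) (fin : KK) (ops : ℕ) : KK :=
  Nat.rec (motive := fun _ => ℕ → KK) (fun _ => fin)
    (fun _ ih ops e p q v c d r => force (Nat.shiftRight ops 32) fun ops' => force (Nat.land ops 4294967295) fun op =>
      step app iv B ty facts i op (ih ops') e p q v c d r) (nops ops) ops

noncomputable def dwalk (i t : ℕ) (fin : List ℕ → List ℕ → List ℤ → Bool) (ops : ℕ) :
    List ℕ → List ℕ → List ℤ → Bool :=
  Nat.rec (motive := fun _ => ℕ → List ℕ → List ℕ → List ℤ → Bool) (fun _ => fin)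
    (fun _ ih ops c d v => force (Nat.shiftRight ops 32) fun ops' => force (Nat.land ops 1) fun s =>
      force (Nat.land (Nat.shiftRight ops 1) 1048575) fun j => band (blt j i)
        (Fact.rec (motive := fun _ => Bool) (fun hd u h _ _ w => band (Nat.beq (fkd hd) 1)
          (dcore app iv s t hd u h w c d fun c' d' dv => ih ops' c' d' (addV v dv))) (facts.get j))) (nops ops) ops

noncomputable def fin0 (f h η : ℕ) (w : List ℤ) : KK := fun e p q v _ _ r =>
  List.rec (motive := fun _ => Bool)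
    (band (Nat.beq e f) (apW app h B fun l => band (eqL l p)
      (band (Bool.rec (motive := fun _ => Bool) true (apW app η q fun l' => eqL l' B) ty) (eqV v w))))
    (fun _ _ _ => false) r

noncomputable def start (i : ℕ) (ρ : Rule) (e u ops : ℕ) (v : List ℤ) (fin : KK) : Bool :=
  apL app ρ.g0 B fun p0 => apW app u p0 fun p => initD app B ρ.segs fun d => force e fun e' =>
    walk app iv B ty facts i fin ops e' p B v B d ρ.segs

noncomputable def chk0 (i hd u h η ops : ℕ) (w : List ℤ) : Bool :=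
  Nat.rec (motive := fun _ => Bool)
    (force (frl hd) fun j => band (Nat.beq (rules.get j).ty 0) (band (Nat.beq (rules.get j).eps (feps hd))
      (start app iv B ty facts i (rules.get j) (fe hd) u ops (rules.get j).v (fin0 app B ty (ft hd) h η w))))
    (fun n _ => Nat.rec (motive := fun _ => Bool)
      (band (Nat.beq (nd (ft hd)) i) (band (blt (fe hd) (ft hd)) (band (Nat.beq h 1) (band (Nat.beq η 1) (eqV w [])))))
      (fun n' _ => Nat.rec (motive := fun _ => Bool)
        (band (Nat.beq (fe hd) 0) (band (Nat.beq (ft hd) 0) (band (Nat.beq (feps hd) 0) (band (Nat.beq h 1)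
          (band (Nat.beq η u) (eqV w []))))))
        (fun _ _ => force (frl hd) fun j => band (Nat.beq (rules.get j).ty 1) (band (bnot ty)
          (band (Nat.beq (feps hd) 0) (band (Nat.beq (fe hd) 0) (band (Nat.beq u 1)
            (start app iv B ty facts i (rules.get j) 0 1 ops [] (fin0 app B ty (ft hd) h η w))))))) n') n)
    (fpt hd)

noncomputable def chk1 (i hd u h ops : ℕ) (w : List ℤ) : Bool :=
  Nat.rec (motive := fun _ => Bool) false (fun j0 _ => force (Nat.mul 2 j0) fun t =>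
    Nat.rec (motive := fun _ => Bool)
      (force (frl hd) fun j => band (Nat.beq (rules.get j).ty 0) (band (Nat.beq (rules.get j).eps (feps hd))
        (List.rec (motive := fun _ => Bool) false (fun x r _ => List.rec (motive := fun _ => Bool)
          (band (Nat.beq x.1 t) (band (apW app u B fun l => apL app (rules.get j).g0 l fun l' => eqL l' B)
            (band (apW app h B fun l => apL app x.2 B fun l' => eqL l l') (eqV w (rules.get j).v))))
          (fun _ _ _ => false) r) (rules.get j).segs)))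
      (fun _ _ => dwalk app iv facts i t (fun c d v => band (apW app u B fun l => eqL l c)
        (band (apW app h B fun l => eqL l d) (eqV v w))) ops B B [])
      (fpt hd)) (feps hd)

/-- The check of fact number `i`. -/
noncomputable def chk (i : ℕ) : Bool :=
  force i fun i => Fact.rec (motive := fun _ => Bool) (fun hd u h η ops w =>
    Nat.rec (motive := fun _ => Bool) (chk0 app iv B ty facts nd rules i hd u h η ops w)
      (fun n _ => Nat.rec (motive := fun _ => Bool) (chk1 app iv B facts rules i hd u h ops w)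
        (fun n' _ => band ty (force (frl hd) fun j => Nat.rec (motive := fun _ => Bool)
          (band (Nat.beq (rules.get j).ty 0) (band (Nat.beq (rules.get j).eps 0)
            (start app iv B ty facts i (rules.get j) (fe hd) u ops (rules.get j).v (fin0 app B ty (fe hd) u 1 w))))
          (fun _ _ => start app iv B ty facts i (rules.get j) 0 1 ops [] (fin0 app B ty 0 1 1 w)) n')) n)
      (fkd hd)) (facts.get i)

end defs

section sound
variable {H X Γ : Type*} [Group H] [MulAction H X] [Group Γ] (A : Act H X) (iv : ℕ → ℕ) (B : List ℕ) (ty : Bool)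
  (facts : Tr Fact) (nd : ℕ → ℕ) (rules : Tr Rule) (f : H →* Γ) (τ z : ℕ → Γ) (L : Subgroup Γ)

/-- The representative of a node. -/
noncomputable def cn (n : ℕ) : Γ :=
  if fe (facts.get (nd n)).hd < n then
    cn (fe (facts.get (nd n)).hd) * f (pw A.gen (facts.get (nd n)).u) * tau τ (feps (facts.get (nd n)).hd)
  else 1
termination_by n

theorem cn_zero : cn A facts nd f τ 0 = 1 := by rw [cn, if_neg (Nat.not_lt_zero _)]

/-- The left factor: explicit, or an element of the left subgroup. -/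
def PP (E : H) (μ : Γ) : Prop := (ty = true → μ = f E) ∧ (ty = false → μ ∈ L)

/-- The meaning of a rule. -/
def RuleOK (ρ : Rule) : Prop :=
  (ρ.ty = 0 → tau τ ρ.eps = zv z ρ.v * f (ev A.gen ρ.g0) * vs A.gen f τ ρ.segs) ∧
    (ρ.ty = 1 → ty = false → f (ev A.gen ρ.g0) * vs A.gen f τ ρ.segs ∈ L)

/-- The meaning of a coset fact. -/
def Sem0 (hd u h η : ℕ) (w : List ℤ) : Prop :=
  ∃ μ, PP ty f L (pw A.gen η) μ ∧ cn A facts nd f τ (fe hd) * f (pw A.gen u) * tau τ (feps hd) =
    zv z w * μ * cn A facts nd f τ (ft hd) * f (pw A.gen h)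

/-- The meaning of a commutation fact. -/
def Sem1 (hd u h : ℕ) (w : List ℤ) : Prop :=
  f (pw A.gen u) * tau τ (feps hd) = zv z w * tau τ (feps hd) * f (pw A.gen h)

/-- The meaning of a fact. -/
def Sem (F : Fact) : Prop :=
  (fkd F.hd = 0 → Sem0 A ty facts nd f τ z L F.hd F.u F.h F.η F.v) ∧ (fkd F.hd = 1 → Sem1 A f τ z F.hd F.u F.h F.v) ∧
    (fkd F.hd = 2 → zv z F.v = 1) ∧
    (fkd F.hd = 3 → f (ev A.gen (rules.get (frl F.hd)).g0) * vs A.gen f τ (rules.get (frl F.hd)).segs = zv z F.v)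

/-- The standing hypotheses. -/
structure Env : Prop where
  hB : A.IsBase B
  hiv : ∀ a, A.gen (iv a) = (A.gen a)⁻¹
  hz : ∀ i, z i ∈ Subgroup.center Γ
  hL : ty = false → ∀ g, f g ∈ L
  hr : ∀ j, RuleOK A ty f τ z L (rules.get j)

/-- The pending commutation. -/
def DI (ζ : Γ) (c d : List ℕ) : List (ℕ × List ℕ) → Prop
  | [] => ζ = 1
  | x :: _ => ∃ a b, PL A B a c ∧ PL A B (b * ev A.gen x.2) d ∧ f a * tk τ x.1 = ζ * tk τ x.1 * f b

/-- The invariant of a walk. -/
def Inv (Y : Γ) (e : ℕ) (p q : List ℕ) (v : List ℤ) (c d : List ℕ) (r : List (ℕ × List ℕ)) : Prop :=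
  ∃ μ W E ζ₁ ζ₂, PL A B W p ∧ (ty = true → PL A B E⁻¹ q) ∧ PP ty f L E μ ∧ ζ₁ ∈ Subgroup.center Γ ∧
    ζ₂ ∈ Subgroup.center Γ ∧ zv z v = ζ₁ * ζ₂ ∧ DI A B f τ ζ₂ c d r ∧
    Y = ζ₁ * μ * cn A facts nd f τ e * f W * vs A.gen f τ r

/-- A continuation succeeds in a state satisfying the invariant. -/
def Good (Y : Γ) (k : KK) : Prop :=
  ∃ e p q v c d r, Inv A B ty facts nd f τ z L Y e p q v c d r ∧ k e p q v c d r = true

variable {A iv B ty facts nd rules f τ z L}

theorem PP.one : PP ty f L 1 1 := ⟨fun _ => (map_one f).symm, fun _ => one_mem _⟩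

theorem PP.mul {E E' : H} {μ μ' : Γ} (h : PP ty f L E μ) (h' : PP ty f L E' μ') : PP ty f L (E * E') (μ * μ') :=
  ⟨fun t => by rw [h.1 t, h'.1 t, map_mul], fun t => mul_mem (h.2 t) (h'.2 t)⟩

theorem PP.inv {E : H} {μ : Γ} (h : PP ty f L E μ) : PP ty f L E⁻¹ μ⁻¹ :=
  ⟨fun t => by rw [h.1 t, map_inv], fun t => inv_mem (h.2 t)⟩

theorem sg_mem {M : Subgroup Γ} {g : Γ} (h : g ∈ M) (s : ℕ) : sg s g ∈ M := by
  unfold sg; split_ifs
  · exact h
  · exact inv_mem h

theorem Sem0.orient (hz : ∀ i, z i ∈ Subgroup.center Γ) {hd u h η : ℕ} {w : List ℤ}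
    (S : Sem0 A ty facts nd f τ z L hd u h η w) (s : ℕ) :
    ∃ μ, PP ty f L (sg s (pw A.gen η)) μ ∧
      cn A facts nd f τ (sel s (fe hd) (ft hd)) * f (pw A.gen (sel s u h)) * sg s (tau τ (feps hd)) =
        zv z (sgV s w) * μ * cn A facts nd f τ (sel s (ft hd) (fe hd)) * f (pw A.gen (sel s h u)) := by
  obtain ⟨μ, h1, h2⟩ := S
  cases s with
  | zero => exact ⟨μ, h1, h2⟩
  | succ s =>
    refine ⟨μ⁻¹, h1.inv, ?_⟩
    rw [zv_sg hz]
    change cn A facts nd f τ (ft hd) * f (pw A.gen h) * (tau τ (feps hd))⁻¹ =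
      (zv z w)⁻¹ * μ⁻¹ * cn A facts nd f τ (fe hd) * f (pw A.gen u)
    rw [← cm (inv_mem (zv_mem hz w)) μ⁻¹, ← mul_inv_rev, mul_inv_eq_iff_eq_mul, mul_assoc (zv z w * μ)⁻¹,
      mul_assoc (zv z w * μ)⁻¹, h2]
    group

theorem Sem1.orient (hz : ∀ i, z i ∈ Subgroup.center Γ) {hd u h : ℕ} {w : List ℤ}
    (S : Sem1 A f τ z hd u h w) (s s0 : ℕ) :
    f (sg s0 (pw A.gen (sel s u h))) * sg s (tau τ (feps hd)) =
      zv z (sgV s0 (sgV s w)) * sg s (tau τ (feps hd)) * f (sg s0 (pw A.gen (sel s h u))) := by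
  have key : ∀ {a b : H} {t ζ : Γ}, ζ ∈ Subgroup.center Γ → f a * t = ζ * t * f b →
      f a⁻¹ * t = ζ⁻¹ * t * f b⁻¹ := by
    intro a b t ζ hζ e
    have : t * f b⁻¹ = f a⁻¹ * (ζ⁻¹)⁻¹ * t := by
      rw [map_inv, map_inv, inv_inv, mul_assoc, eq_inv_mul_iff_mul_eq, ← mul_assoc, e]; group
    rw [mul_assoc, this, cm (inv_mem (inv_mem hζ)) (f a⁻¹)]; group
  have k2 : f (pw A.gen (sel s u h)) * sg s (tau τ (feps hd)) =
      zv z (sgV s w) * sg s (tau τ (feps hd)) * f (pw A.gen (sel s h u)) := by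
    cases s with
    | zero => exact S
    | succ s =>
      rw [zv_sg hz]
      change f (pw A.gen h) * (tau τ (feps hd))⁻¹ = (zv z w)⁻¹ * (tau τ (feps hd))⁻¹ * f (pw A.gen u)
      unfold Sem1 at S
      rw [← cm (inv_mem (zv_mem hz w)), ← mul_inv_rev, mul_inv_eq_iff_eq_mul, mul_assoc, S]
      group
  cases s0 with
  | zero => exact k2
  | succ s0 =>
    rw [zv_sg hz (s0 + 1)]
    exact key (zv_mem hz _) k2

theorem initD_spec (hB : A.IsBase B) {r : List (ℕ × List ℕ)} {k : List ℕ → Bool}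
    (e : initD A.app B r k = true) : ∃ d, DI A B f τ 1 B d r ∧ k d = true := by
  cases r with
  | nil => exact ⟨B, rfl, e⟩
  | cons x r =>
    obtain ⟨d, h1, h2⟩ := apL_spec (PL.one hB.1) (show apL A.app x.2 B k = true from e)
    exact ⟨d, ⟨1, 1, PL.one hB.1, by simpa using h1, by simp⟩, h2⟩

theorem updE_spec (hiv : ∀ a, A.gen (iv a) = (A.gen a)⁻¹) {s η : ℕ} {q : List ℕ} {E : H}
    (hq : ty = true → PL A B E⁻¹ q) {k : List ℕ → Bool} (e : updE A.app iv ty s η q k = true) :
    ∃ q', (ty = true → PL A B (E * sg s (pw A.gen η))⁻¹ q') ∧ k q' = true := by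
  cases ty with
  | false => exact ⟨q, by simp, e⟩
  | true =>
    cases s with
    | zero =>
      obtain ⟨q', h1, h2⟩ := apI_spec hiv (hq rfl) (show apI A.app iv η q k = true from e)
      exact ⟨q', fun _ => by simpa [sg] using h1, h2⟩
    | succ s =>
      obtain ⟨q', h1, h2⟩ := apW_spec (hq rfl) (show apW A.app η q k = true from e)
      exact ⟨q', fun _ => by simpa [sg] using h1, h2⟩

theorem tk_eq {t hd : ℕ} (h : Nat.succ (Nat.shiftRight t 1) = feps hd) :
    tk τ t = sg (Nat.land t 1) (tau τ (feps hd)) := by rw [← h]; rfl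

theorem dcore_spec (hiv : ∀ a, A.gen (iv a) = (A.gen a)⁻¹) (hz : ∀ i, z i ∈ Subgroup.center Γ) {s0 t hd u h : ℕ}
    {w : List ℤ} (S : Sem1 A f τ z hd u h w) {c d : List ℕ} {a b g : H} {ζ : Γ} (hζ : ζ ∈ Subgroup.center Γ)
    (h1 : PL A B a c) (h2 : PL A B (b * g) d) (h3 : f a * tk τ t = ζ * tk τ t * f b)
    {k : List ℕ → List ℕ → List ℤ → Bool} (e : dcore A.app iv s0 t hd u h w c d k = true) :
    ∃ c' d' dv a' b', PL A B a' c' ∧ PL A B (b' * g) d' ∧ f a' * tk τ t = ζ * zv z dv * tk τ t * f b' ∧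
      k c' d' dv = true := by
  unfold dcore at e
  rw [band_eq, beq_iff, force_eq] at e
  obtain ⟨c', i1, e2⟩ := apS_spec hiv h1 e.2
  obtain ⟨d', i2, e3⟩ := apS_spec hiv h2 e2
  refine ⟨c', d', _, _, _, i1, by rwa [mul_assoc], ?_, e3⟩
  have := S.orient hz (Nat.land t 1) s0
  rw [← tk_eq e.1] at this
  rw [map_mul, map_mul, mul_assoc, h3, ← mul_assoc, ← mul_assoc, cm hζ, mul_assoc ζ, this]
  group

variable (E : Env A iv B ty rules f τ z L)
include E

theorem nstep_spec {s hd u h η : ℕ} {w : List ℤ} (S : Sem0 A ty facts nd f τ z L hd u h η w) (h0 : feps hd = 0)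
    {Y : Γ} {k : KK} (G : Good A B ty facts nd f τ z L Y (nstep A.app iv ty s hd u h η w k)) :
    Good A B ty facts nd f τ z L Y k := by
  obtain ⟨e, p, q, v, c, d, r, ⟨μ, W, E', ζ₁, ζ₂, i1, i2, i3, i4, i5, i6, i7, i8⟩, e1⟩ := G
  unfold nstep at e1
  rw [band_eq, beq_iff] at e1
  obtain ⟨p1, j1, e2⟩ := apI_spec E.hiv i1 e1.2
  obtain ⟨p2, j2, e3⟩ := apW_spec j1 e2
  obtain ⟨q', j3, e4⟩ := updE_spec E.hiv i2 e3
  rw [force_eq] at e4
  obtain ⟨μ', m1, m2⟩ := S.orient E.hz s
  have t1 : sg s (tau τ (feps hd)) = 1 := by rw [h0]; simp [sg, tau]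
  rw [t1, mul_one, ← e1.1] at m2
  have hc := zv_mem E.hz (sgV s w)
  refine ⟨_, _, _, _, _, _, _, ⟨μ * μ', _, _, ζ₁ * zv z (sgV s w), ζ₂, j2, j3, i3.mul m1, mul_mem i4 hc, i5, ?_, i7,
    ?_⟩, e4⟩
  · rw [zv_add E.hz, i6, mul_assoc, cm hc ζ₂, mul_assoc]
  · rw [i8, map_mul, map_mul, map_inv]
    calc _ = ζ₁ * μ * (cn A facts nd f τ e * f (pw A.gen (sel s u h))) * (f (pw A.gen (sel s u h)))⁻¹ * f W *
          vs A.gen f τ r := by group
      _ = ζ₁ * (μ * zv z (sgV s w)) * μ' * cn A facts nd f τ (sel s (ft hd) (fe hd)) * f (pw A.gen (sel s h u)) *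
          (f (pw A.gen (sel s u h)))⁻¹ * f W * vs A.gen f τ r := by rw [m2]; group
      _ = _ := by rw [cm hc μ]; group

theorem tstep_spec {hd u h η : ℕ} {w : List ℤ} (S : Sem0 A ty facts nd f τ z L hd u h η w)
    {Y : Γ} {k : KK} (G : Good A B ty facts nd f τ z L Y (tstep A.app iv B ty hd u h η w k)) :
    Good A B ty facts nd f τ z L Y k := by
  obtain ⟨e, p, q, v, c, d, r, ⟨μ, W, E', ζ₁, ζ₂, i1, i2, i3, i4, i5, i6, i7, i8⟩, e1⟩ := G
  cases r with
  | nil => exact absurd e1 (by simp [tstep])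
  | cons x r =>
    obtain ⟨a, b, k1, k2, k3⟩ := i7
    unfold tstep at e1
    simp only [force_eq, band_eq, beq_iff] at e1
    obtain ⟨e0, e1, e2⟩ := e1
    obtain ⟨c1, j0, e2'⟩ := apW_spec k1 e2
    rw [band_eq, eqL_iff] at e2'
    obtain ⟨rfl, e2''⟩ := e2'
    have hW : W = pw A.gen (sel (Nat.land x.1 1) u h) * a := i1.eq E.hB j0
    obtain ⟨p2, j2, e3⟩ := apW_spec k2 e2''
    obtain ⟨q', j3, e4⟩ := updE_spec E.hiv i2 e3
    obtain ⟨d', j4, e5⟩ := initD_spec (f := f) (τ := τ) E.hB e4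
    obtain ⟨μ', m1, m2⟩ := S.orient E.hz (Nat.land x.1 1)
    rw [← tk_eq e0, ← e1] at m2
    have hc := zv_mem E.hz (sgV (Nat.land x.1 1) w)
    refine ⟨_, _, _, _, _, _, _, ⟨μ * μ', _, _, ζ₁ * ζ₂ * zv z (sgV (Nat.land x.1 1) w), 1, j2, j3, i3.mul m1,
      mul_mem (mul_mem i4 i5) hc, one_mem _, ?_, j4, ?_⟩, e5⟩
    · rw [zv_add E.hz, i6, mul_one]
    · rw [i8, hW, vs, map_mul, map_mul, map_mul]
      calc _ = ζ₁ * μ * cn A facts nd f τ e * f (pw A.gen (sel (Nat.land x.1 1) u h)) * (f a * tk τ x.1) *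
            f (ev A.gen x.2) * vs A.gen f τ r := by group
        _ = ζ₁ * (μ * cn A facts nd f τ e * f (pw A.gen (sel (Nat.land x.1 1) u h)) * ζ₂) * tk τ x.1 * f b *
            f (ev A.gen x.2) * vs A.gen f τ r := by rw [k3]; group
        _ = ζ₁ * ζ₂ * μ * (cn A facts nd f τ e * f (pw A.gen (sel (Nat.land x.1 1) u h)) * tk τ x.1) * f b *
            f (ev A.gen x.2) * vs A.gen f τ r := by rw [cm i5]; group
        _ = ζ₁ * ζ₂ * (μ * zv z (sgV (Nat.land x.1 1) w)) * μ' *
            cn A facts nd f τ (sel (Nat.land x.1 1) (ft hd) (fe hd)) * f (pw A.gen (sel (Nat.land x.1 1) h u)) * f b *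
            f (ev A.gen x.2) * vs A.gen f τ r := by rw [m2]; group
        _ = _ := by rw [cm hc μ]; group

theorem dstep_spec {s0 hd u h : ℕ} {w : List ℤ} (S : Sem1 A f τ z hd u h w)
    {Y : Γ} {k : KK} (G : Good A B ty facts nd f τ z L Y (dstep A.app iv s0 hd u h w k)) :
    Good A B ty facts nd f τ z L Y k := by
  obtain ⟨e, p, q, v, c, d, r, ⟨μ, W, E', ζ₁, ζ₂, i1, i2, i3, i4, i5, i6, i7, i8⟩, e1⟩ := G
  cases r with
  | nil => exact absurd e1 (by simp [dstep])
  | cons x r =>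
    obtain ⟨a, b, k1, k2, k3⟩ := i7
    unfold dstep at e1
    simp only [force_eq] at e1
    obtain ⟨c', d', dv, a', b', j1, j2, j3, e2⟩ := dcore_spec E.hiv E.hz S i5 k1 k2 k3 e1
    refine ⟨_, _, _, _, _, _, x :: r, ⟨μ, W, E', ζ₁, ζ₂ * zv z dv, i1, i2, i3, i4, mul_mem i5 (zv_mem E.hz _), ?_,
      ⟨a', b', j1, j2, j3⟩, i8⟩, e2⟩
    rw [zv_add E.hz, i6, mul_assoc]

theorem zstep_spec {s m : ℕ} {w : List ℤ} (S : zv z w = 1)
    {Y : Γ} {k : KK} (G : Good A B ty facts nd f τ z L Y (zstep s m w k)) : Good A B ty facts nd f τ z L Y k := by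
  obtain ⟨e, p, q, v, c, d, r, ⟨μ, W, E', ζ₁, ζ₂, i1, i2, i3, i4, i5, i6, i7, i8⟩, e1⟩ := G
  refine ⟨_, _, _, _, _, _, _, ⟨μ, W, E', ζ₁, ζ₂, i1, i2, i3, i4, i5, ?_, i7, i8⟩, e1⟩
  rw [zv_add E.hz, zv_mul E.hz, S, one_zpow, mul_one, i6]

theorem fstep_spec {s m : ℕ} {F : Fact} (S : Sem A ty facts nd rules f τ z L F)
    {Y : Γ} {k : KK} (G : Good A B ty facts nd f τ z L Y (fstep A.app iv B ty s m F k)) :
    Good A B ty facts nd f τ z L Y k := by
  obtain ⟨e, p, q, v, c, d, r, I, e1⟩ := G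
  obtain ⟨hd, u, h, η, ops, w⟩ := F
  unfold fstep at e1
  obtain ⟨S0, S1, S2, _⟩ := S
  dsimp only at e1 S0 S1 S2
  generalize fkd hd = kd at *
  rcases kd with _ | _ | _ | kd
  · by_cases h0 : feps hd = 0
    · rw [h0] at e1
      exact nstep_spec E (S0 rfl) h0 ⟨e, p, q, v, c, d, r, I, e1⟩
    · obtain ⟨j, hj⟩ := Nat.exists_eq_succ_of_ne_zero h0
      have e2 := e1
      rw [hj] at e2
      exact tstep_spec E (S0 rfl) ⟨e, p, q, v, c, d, r, I, e2⟩
  · exact dstep_spec E (S1 rfl) ⟨e, p, q, v, c, d, r, I, e1⟩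
  · exact zstep_spec E (S2 rfl) ⟨e, p, q, v, c, d, r, I, e1⟩
  · exact absurd e1 (by simp)

theorem step_spec {i op : ℕ} (S : ∀ j, j < i → Sem A ty facts nd rules f τ z L (facts.get j))
    {Y : Γ} {k : KK} (G : Good A B ty facts nd f τ z L Y (step A.app iv B ty facts i op k)) :
    Good A B ty facts nd f τ z L Y k := by
  obtain ⟨e, p, q, v, c, d, r, I, e1⟩ := G
  unfold step at e1
  rw [force_eq] at e1
  generalize Nat.land (Nat.shiftRight op 1) 1048575 = j at e1
  cases j with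
  | zero =>
    have e2 : band (bnot ty) (band (Nat.beq e 0) (k e B q v c d r)) = true := e1
    rw [band_eq, band_eq, bnot_eq, beq_iff] at e2
    obtain ⟨t, rfl, e3⟩ := e2
    obtain ⟨μ, W, E', ζ₁, ζ₂, _, i2, i3, i4, i5, i6, i7, i8⟩ := I
    refine ⟨_, _, _, _, _, _, _, ⟨μ * f W, 1, E', ζ₁, ζ₂, PL.one E.hB.1, i2,
      ⟨fun t' => absurd (t.symm.trans t') (by simp), fun _ => mul_mem (i3.2 t) (E.hL t W)⟩, i4, i5, i6, i7, ?_⟩, e3⟩
    rw [i8, cn_zero]; simp [mul_assoc]
  | succ j =>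
    have e2 : band (blt (Nat.succ j) i) (fstep A.app iv B ty (Nat.land op 1) (Nat.shiftRight op 21)
      (facts.get (Nat.succ j)) k e p q v c d r) = true := e1
    rw [band_eq, blt_iff] at e2
    exact fstep_spec E (S _ e2.1) ⟨e, p, q, v, c, d, r, I, e2.2⟩

theorem walk_spec {i : ℕ} (S : ∀ j, j < i → Sem A ty facts nd rules f τ z L (facts.get j))
    {Y : Γ} {fin : KK} {ops : ℕ} (G : Good A B ty facts nd f τ z L Y (walk A.app iv B ty facts i fin ops)) :
    Good A B ty facts nd f τ z L Y fin := by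
  unfold walk at G
  generalize nops ops = n at G
  induction n generalizing ops with
  | zero => exact G
  | succ n ih =>
    obtain ⟨e, p, q, v, c, d, r, I, e1⟩ := G
    simp only [force_eq] at e1
    exact ih (step_spec E S ⟨e, p, q, v, c, d, r, I, by simpa only [force_eq] using e1⟩)

theorem dwalk_spec {i t : ℕ} (S : ∀ j, j < i → Sem A ty facts nd rules f τ z L (facts.get j))
    {fin : List ℕ → List ℕ → List ℤ → Bool} {ops : ℕ} {c d : List ℕ} {v : List ℤ} {a b : H} (h1 : PL A B a c)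
    (h2 : PL A B b d) (h3 : f a * tk τ t = zv z v * tk τ t * f b)
    (e : dwalk A.app iv facts i t fin ops c d v = true) :
    ∃ c' d' v' a' b', PL A B a' c' ∧ PL A B b' d' ∧ f a' * tk τ t = zv z v' * tk τ t * f b' ∧ fin c' d' v' = true := by
  unfold dwalk at e
  generalize nops ops = n at e
  induction n generalizing ops c d v a b with
  | zero => exact ⟨c, d, v, a, b, h1, h2, h3, e⟩
  | succ n ih =>
    simp only [force_eq] at e ih
    rw [band_eq, band_eq, blt_iff, beq_iff] at e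
    obtain ⟨e1, e2, e3⟩ := e
    obtain ⟨c', d', dv, a', b', j1, j2, j3, e4⟩ :=
      dcore_spec (g := 1) E.hiv E.hz ((S _ e1).2.1 e2) (zv_mem E.hz v) h1 (by rwa [mul_one]) h3 e3
    rw [mul_one] at j2
    rw [← zv_add E.hz] at j3
    exact ih j1 j2 j3 e4

theorem start_spec {i : ℕ} (S : ∀ j, j < i → Sem A ty facts nd rules f τ z L (facts.get j))
    {ρ : Rule} {e u ops : ℕ} {v : List ℤ} {t h η : ℕ} {w : List ℤ}
    (e1 : start A.app iv B ty facts i ρ e u ops v (fin0 A.app B ty t h η w) = true) :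
    ∃ μ, PP ty f L (pw A.gen η) μ ∧
      zv z v * cn A facts nd f τ e * f (pw A.gen u) * (f (ev A.gen ρ.g0) * vs A.gen f τ ρ.segs) =
        zv z w * μ * cn A facts nd f τ t * f (pw A.gen h) := by
  unfold start at e1
  obtain ⟨p0, j0, e2⟩ := apL_spec (PL.one E.hB.1) e1
  obtain ⟨p, j1, e3⟩ := apW_spec j0 e2
  obtain ⟨d, j2, e4⟩ := initD_spec (f := f) (τ := τ) E.hB e3
  rw [force_eq] at e4
  obtain ⟨e', p', q, v', c, d', r, ⟨μ, W, E', ζ₁, ζ₂, i1, i2, i3, i4, i5, i6, i7, i8⟩, e5⟩ :=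
    walk_spec E S (nd := nd)
      (Y := zv z v * cn A facts nd f τ e * f (pw A.gen u) * (f (ev A.gen ρ.g0) * vs A.gen f τ ρ.segs))
      ⟨_, _, _, _, _, _, _, ⟨1, _, 1, zv z v, 1, j1, fun _ => by simpa using PL.one E.hB.1, PP.one, zv_mem E.hz v,
        one_mem _, (mul_one _).symm, j2, by simp [mul_assoc]⟩, e4⟩
  cases r with
  | cons x r => exact absurd e5 (by simp [fin0])
  | nil =>
    have hζ : ζ₂ = 1 := i7
    unfold fin0 at e5
    simp only [band_eq, beq_iff] at e5
    obtain ⟨rfl, e6⟩ := e5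
    obtain ⟨l, k1, e7⟩ := apW_spec (PL.one E.hB.1) e6
    rw [band_eq, band_eq, eqL_iff] at e7
    obtain ⟨rfl, e8, e9⟩ := e7
    have hW : W = pw A.gen h := by simpa using i1.eq E.hB k1
    refine ⟨μ, ⟨fun t => ?_, i3.2⟩, ?_⟩
    · subst t
      obtain ⟨l', k2, e10⟩ := apW_spec (i2 rfl) (show apW A.app η q (fun l' => eqL l' B) = true from e8)
      rw [eqL_iff] at e10
      subst e10
      rw [i3.1 rfl, mul_inv_eq_one.1 (k2.eq E.hB (PL.one E.hB.1))]
    · rw [i8, ← zv_eqV E.hz e9, i6, hζ, hW]; simp [vs]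

theorem chk0_sound {i hd u h η ops : ℕ} {w : List ℤ} (S : ∀ j, j < i → Sem A ty facts nd rules f τ z L (facts.get j))
    (hF : facts.get i = ⟨hd, u, h, η, ops, w⟩) (e : chk0 A.app iv B ty facts nd rules i hd u h η ops w = true) :
    Sem0 A ty facts nd f τ z L hd u h η w := by
  unfold chk0 at e
  generalize fpt hd = pt at e
  rcases pt with _ | _ | _ | pt
  · simp only [Nat.rec_zero, force_eq, band_eq, beq_iff] at e
    obtain ⟨μ, h1, h2⟩ := start_spec E S (nd := nd) e.2.2
    refine ⟨μ, h1, ?_⟩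
    rw [← h2, ← e.2.1, (E.hr _).1 e.1, mul_assoc (zv z _), ← mul_assoc, cm (zv_mem E.hz _)]
    group
  · have e' : band (Nat.beq (nd (ft hd)) i) (band (blt (fe hd) (ft hd)) (band (Nat.beq h 1) (band (Nat.beq η 1)
      (eqV w [])))) = true := e
    simp only [band_eq, beq_iff, blt_iff] at e'
    obtain ⟨h1, h2, rfl, rfl, h5⟩ := e'
    refine ⟨1, PP.one, ?_⟩
    rw [zv_eqV E.hz h5]
    conv_rhs => rw [cn, h1, hF, if_pos h2]
    simp only [zv_nil, one_mul, pw_one, map_one, mul_one]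
  · have e' : band (Nat.beq (fe hd) 0) (band (Nat.beq (ft hd) 0) (band (Nat.beq (feps hd) 0) (band (Nat.beq h 1)
      (band (Nat.beq η u) (eqV w []))))) = true := e
    simp only [band_eq, beq_iff] at e'
    obtain ⟨h1, h2, h3, rfl, rfl, h5⟩ := e'
    refine ⟨f (pw A.gen η), ⟨fun _ => rfl, fun t => E.hL t _⟩, ?_⟩
    rw [zv_eqV E.hz h5, h1, h2, h3, cn_zero]
    simp [tau, pw_one]
  · have e' : (force (frl hd) fun j => band (Nat.beq (rules.get j).ty 1) (band (bnot ty)
          (band (Nat.beq (feps hd) 0) (band (Nat.beq (fe hd) 0) (band (Nat.beq u 1)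
            (start A.app iv B ty facts i (rules.get j) 0 1 ops [] (fin0 A.app B ty (ft hd) h η w))))))) = true := e
    simp only [force_eq, band_eq, beq_iff, bnot_eq] at e'
    obtain ⟨h1, h2, h3, h4, rfl, h6⟩ := e'
    obtain ⟨μ, k1, k2⟩ := start_spec E S (nd := nd) h6
    have hl := (E.hr _).2 h1 h2
    refine ⟨(f (ev A.gen (rules.get (frl hd)).g0) * vs A.gen f τ (rules.get (frl hd)).segs)⁻¹ * μ,
      ⟨fun t => absurd (h2.symm.trans t) (by simp), fun _ => mul_mem (inv_mem hl) (k1.2 h2)⟩, ?_⟩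
    rw [cn_zero, pw_one, zv_nil, map_one, one_mul, one_mul, one_mul] at k2
    rw [h3, h4, cn_zero, pw_one, ← mul_assoc (zv z w), ← cm (zv_mem E.hz w), k2]
    simp [tau, mul_assoc]

theorem chk1_sound {i hd u h ops : ℕ} {w : List ℤ} (S : ∀ j, j < i → Sem A ty facts nd rules f τ z L (facts.get j))
    (e : chk1 A.app iv B facts rules i hd u h ops w = true) : Sem1 A f τ z hd u h w := by
  unfold chk1 at e
  unfold Sem1
  rcases he : feps hd with _ | j0
  · rw [he] at e; exact absurd e (by simp)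
  have ht : tk τ (Nat.mul 2 j0) = tau τ (j0 + 1) := tk_even τ j0
  rw [he] at e
  generalize fpt hd = pt at e
  rcases pt with _ | pt
  · simp only [Nat.rec_zero, force_eq, band_eq, beq_iff] at e
    obtain ⟨h1, h2, h3⟩ := e
    have hr := (E.hr _).1 h1
    generalize rules.get (frl hd) = ρ at *
    rcases hs : ρ.segs with _ | ⟨x, _ | ⟨y, r⟩⟩
    · rw [hs] at h3; exact absurd h3 (by simp)
    · rw [hs] at h3 hr
      simp only [band_eq, beq_iff] at h3
      obtain ⟨k1, k2, k3, k4⟩ := h3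
      obtain ⟨l, a1, a2⟩ := apW_spec (PL.one E.hB.1) k2
      obtain ⟨l', a3, a4⟩ := apL_spec a1 a2
      rw [eqL_iff] at a4
      subst a4
      have b1 := a3.eq E.hB (PL.one E.hB.1)
      obtain ⟨m, c1, c2⟩ := apW_spec (PL.one E.hB.1) k3
      obtain ⟨m', c3, c4⟩ := apL_spec (PL.one E.hB.1) c2
      rw [eqL_iff] at c4
      subst c4
      have b2 := c1.eq E.hB c3
      rw [mul_one] at b1
      rw [mul_one, mul_one] at b2
      rw [h2, vs, vs, k1, ht, mul_one, ← b2] at hr
      rw [zv_eqV E.hz k4, ← inv_eq_of_mul_eq_one_right b1, map_inv, inv_mul_eq_iff_eq_mul]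
      conv_lhs => rw [hr]
      rw [← cm (zv_mem E.hz ρ.v)]
      group
    · rw [hs] at h3; exact absurd h3 (by simp)
  · simp only [force_eq] at e
    obtain ⟨c', d', v', a', b', j1, j2, j3, e2⟩ := dwalk_spec E S (nd := nd) (PL.one E.hB.1) (PL.one E.hB.1)
      (by simp) e
    rw [band_eq, band_eq] at e2
    obtain ⟨l, a1, a2⟩ := apW_spec (PL.one E.hB.1) e2.1
    obtain ⟨m, c1, c2⟩ := apW_spec (PL.one E.hB.1) e2.2.1
    rw [eqL_iff] at a2 c2
    subst a2 c2
    rw [← ht, ← zv_eqV E.hz e2.2.2, ← mul_one (pw A.gen u), ← mul_one (pw A.gen h), a1.eq E.hB j1, c1.eq E.hB j2, j3]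

theorem chk_sound {i : ℕ} (S : ∀ j, j < i → Sem A ty facts nd rules f τ z L (facts.get j))
    (e : chk A.app iv B ty facts nd rules i = true) : Sem A ty facts nd rules f τ z L (facts.get i) := by
  unfold chk at e
  rw [force_eq] at e
  rcases hF : facts.get i with ⟨hd, u, h, η, ops, w⟩
  rw [hF] at e
  unfold Sem
  dsimp only at e ⊢
  generalize hk : fkd hd = kd at e
  rcases kd with _ | _ | _ | kd
  · exact ⟨fun _ => chk0_sound E S hF e, by simp, by simp, by simp⟩
  · exact ⟨by simp, fun _ => chk1_sound E S e, by simp, by simp⟩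
  · refine ⟨by simp, by simp, fun _ => ?_, by simp⟩
    simp only [Nat.rec_zero, force_eq, band_eq, beq_iff] at e
    obtain ⟨t, h1, h2, h3⟩ := e
    obtain ⟨μ, k1, k2⟩ := start_spec E S (nd := nd) h3
    have hr := (E.hr _).1 h1
    rw [h2, tau, mul_assoc] at hr
    rw [k1.1 t, pw_one, map_one, mul_one, mul_assoc (zv z _), mul_assoc (zv z _), ← cm (zv_mem E.hz _),
      mul_assoc, cm (zv_mem E.hz _), ← hr, mul_one, mul_assoc] at k2
    exact (right_eq_mul.1 k2)
  · refine ⟨by simp, by simp, by simp, fun _ => ?_⟩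
    simp only [force_eq, band_eq] at e
    obtain ⟨μ, k1, k2⟩ := start_spec E S (nd := nd) e.2
    rw [k1.1 e.1, cn_zero, pw_one] at k2
    simpa using k2

/-- Soundness of a checked table of facts. -/
theorem sound {N : ℕ} (e : allRange (chk A.app iv B ty facts nd rules) 0 N = true) :
    ∀ j, j < N → Sem A ty facts nd rules f τ z L (facts.get j) := by
  rw [allRange_iff] at e
  intro j
  induction j using Nat.strong_induction_on with
  | _ j ih => exact fun hj => chk_sound E (fun i hi => ih i hi (by omega)) (e j (Nat.zero_le _) (by omega))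

end sound

end Cfsg.Agent.DC
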