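import Cfsg.Agent.Lib.DC.Check

/-! Double coset enumeration: rules from relators, exported relators, closure of the table. -/

set_option autoImplicit false

namespace Cfsg.Agent.DC
open Cfsg.Agent.CG

/-! ### Rules -/

/-- The substitution of inverse letters read off from relators. -/
noncomputable def sbR (rels : List (List ℕ × List ℤ)) (idx : List (ℕ × ℕ)) (a : ℕ) : List ℕ × List ℤ :=
  match idx.lookup a with
  | some ri =>
    if (rels.getD ri ([], [])).1.head? = some (a - 1) ∧ a % 2 = 1 ∧ 257 ≤ a then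
      ((rels.getD ri ([], [])).1.tail, mulV (Int.negSucc 0) (rels.getD ri ([], [])).2)
    else ([a], [])
  | none => ([a], [])

/-- The substitution, or nothing. -/
noncomputable def subB (b : Bool) (sb : ℕ → List ℕ × List ℤ) (w : List ℕ) : List ℕ × List ℤ :=
  if b then subT sb w else (w, [])

/-- A rule is read off from a relator or a generator of the left subgroup. -/
noncomputable def ruleChk (iv : ℕ → ℕ) (rels : List (List ℕ × List ℤ)) (lrels : List (List ℕ)) (idx : List (ℕ × ℕ))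
    (ρ : Rule) : Bool :=
  if ρ.ty = 0 then
    let r := rels.getD ρ.ri ([], [])
    let r1 := if ρ.iv then invT iv r.1 else r.1
    let v1 := if ρ.iv then r.2 else mulV (Int.negSucc 0) r.2
    let r2 := r1.drop ρ.rot ++ r1.take ρ.rot
    let r3 := if ρ.eps = 0 then r2 else r2.dropLast
    let s := subB ρ.sb (sbR rels idx) r3
    decide (ρ.eps = 0 ∨ r2 = r3 ++ [256 + (2 * (ρ.eps - 1) + 1)]) && decide (split s.1 = (ρ.g0, ρ.segs)) &&
      eqV ρ.v (addV v1 s.2)
  else if ρ.ty = 1 then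
    let s := subB ρ.sb (sbR rels idx) (lrels.getD ρ.ri [])
    decide (split s.1 = (ρ.g0, ρ.segs)) && eqV s.2 []
  else true

/-- An exported relator. -/
noncomputable def expChk (facts : Tr Fact) (rules : Tr Rule) (rels : List (List ℕ × List ℤ)) (idx : List (ℕ × ℕ))
    (N : ℕ) (x : ℕ × List ℕ × List ℤ) : Bool :=
  let F := facts.get x.1
  let ρ := rules.get (frl F.hd)
  let s := subB ρ.sb (sbR rels idx) x.2.1
  blt x.1 N && Nat.beq (fkd F.hd) 3 && decide (split s.1 = (ρ.g0, ρ.segs)) && eqV x.2.2 (addV s.2 F.v)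

/-- An exported tail relation. -/
noncomputable def relChk (facts : Tr Fact) (N : ℕ) (x : ℕ × List ℤ) : Bool :=
  blt x.1 N && Nat.beq (fkd (facts.get x.1).hd) 2 && eqV x.2 (facts.get x.1).v

/-- Substitution of token words for the extra letters. -/
def sbW (iv : ℕ → ℕ) (ws : List (List ℕ)) (a : ℕ) : List ℕ × List ℤ :=
  if a < 256 then ([a], []) else
    if a % 2 = 0 then (ws.getD ((a - 256) / 2) [], []) else (invT iv (ws.getD ((a - 256) / 2) []), [])

section
variable {H Γ : Type*} [Group H] [Group Γ] {gen : ℕ → H} {f : H →* Γ} {τ z : ℕ → Γ} {iv : ℕ → ℕ}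
  {rels : List (List ℕ × List ℤ)}

theorem rel_getD (hrel : ∀ r ∈ rels, ev (tokv gen f τ) r.1 = zv z r.2) (i : ℕ) :
    ev (tokv gen f τ) (rels.getD i ([], [])).1 = zv z (rels.getD i ([], [])).2 := by
  by_cases h : i < rels.length
  · rw [List.getD_eq_getElem _ _ h]; exact hrel _ (List.getElem_mem _)
  · rw [List.getD_eq_default _ _ (by omega)]; rfl

theorem sbR_spec (hz : ∀ i, z i ∈ Subgroup.center Γ) (hrel : ∀ r ∈ rels, ev (tokv gen f τ) r.1 = zv z r.2)
    (idx : List (ℕ × ℕ)) (a : ℕ) :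
    tokv gen f τ a = zv z (sbR rels idx a).2 * ev (tokv gen f τ) (sbR rels idx a).1 := by
  unfold sbR
  split
  · rename_i ri _
    split_ifs with h
    · have h1 := rel_getD hrel ri
      generalize rels.getD ri ([], []) = r at *
      obtain ⟨w, v⟩ := r
      cases w with
      | nil => simp at h
      | cons b w =>
        obtain ⟨h2, h3, h4⟩ := h
        obtain ⟨j, rfl⟩ : ∃ j, a = 256 + (2 * j + 1) := ⟨(a - 256) / 2, by omega⟩
        have hb : b = 256 + 2 * j := by simp at h2; omega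
        subst hb
        have e1 : ¬ 256 + (2 * j + 1) < 256 := by omega
        have e2 : ¬ 256 + 2 * j < 256 := by omega
        simp only [ev_cons, tokv, e1, e2, if_false, Nat.add_sub_cancel_left, tk_even, tk_odd, List.tail_cons] at h1 ⊢
        rw [zv_mul hz, ← cm (zpow_mem (zv_mem hz v) _), ← h1]
        simp
    · simp
  · simp

theorem subB_spec (hz : ∀ i, z i ∈ Subgroup.center Γ) (hrel : ∀ r ∈ rels, ev (tokv gen f τ) r.1 = zv z r.2)
    (idx : List (ℕ × ℕ)) (b : Bool) (w : List ℕ) :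
    ev (tokv gen f τ) w = zv z (subB b (sbR rels idx) w).2 * ev (tokv gen f τ) (subB b (sbR rels idx) w).1 := by
  cases b with
  | false => simp [subB]
  | true => exact ev_subT hz (sbR_spec hz hrel idx) w

theorem tokv_sbW (hiv : ∀ a, gen (iv a) = (gen a)⁻¹) (h256 : ∀ a, a < 256 → iv a < 256) (ws : List (List ℕ))
    (a : ℕ) : tokv gen f (fun j => ev (tokv gen f τ) (ws.getD j [])) a =
      zv z (sbW iv ws a).2 * ev (tokv gen f τ) (sbW iv ws a).1 := by
  unfold sbW
  by_cases h : a < 256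
  · simp [h, tokv]
  · by_cases h2 : a % 2 = 0
    · obtain ⟨j, rfl⟩ : ∃ j, a = 256 + 2 * j := ⟨(a - 256) / 2, by omega⟩
      simp only [h, h2, if_false, if_true, Nat.add_sub_cancel_left, zv_nil, one_mul]
      rw [tokv, if_neg h, Nat.add_sub_cancel_left, tk_even, Nat.mul_div_cancel_left _ (by norm_num)]
    · obtain ⟨j, rfl⟩ : ∃ j, a = 256 + (2 * j + 1) := ⟨(a - 256) / 2, by omega⟩
      simp only [h, h2, if_false, Nat.add_sub_cancel_left, zv_nil, one_mul]
      rw [tokv, if_neg h, Nat.add_sub_cancel_left, tk_odd, ev_invT gen f τ hiv h256,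
        show (2 * j + 1) / 2 = j by omega]

/-- Relators in new extra letters, which are words in the old ones. -/
theorem rel_sbW (hz : ∀ i, z i ∈ Subgroup.center Γ) (hiv : ∀ a, gen (iv a) = (gen a)⁻¹)
    (h256 : ∀ a, a < 256 → iv a < 256) (ws : List (List ℕ)) (w : List ℕ) :
    ev (tokv gen f (fun j => ev (tokv gen f τ) (ws.getD j []))) w =
      zv z (subT (sbW iv ws) w).2 * ev (tokv gen f τ) (subT (sbW iv ws) w).1 :=
  ev_subT hz (tokv_sbW hiv h256 ws) w

end

section
variable {H X Γ : Type*} [Group H] [MulAction H X] [Group Γ] {A : Act H X} {iv : ℕ → ℕ} {B : List ℕ} {ty : Bool}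
  {facts : Tr Fact} {nd : ℕ → ℕ} {rules : Tr Rule} {f : H →* Γ} {τ z : ℕ → Γ} {L : Subgroup Γ}
  {rels : List (List ℕ × List ℤ)} {lrels : List (List ℕ)} {idx : List (ℕ × ℕ)}

theorem ruleOK_of_chk (hz : ∀ i, z i ∈ Subgroup.center Γ) (hiv : ∀ a, A.gen (iv a) = (A.gen a)⁻¹)
    (h256 : ∀ a, a < 256 → iv a < 256) (hrel : ∀ r ∈ rels, ev (tokv A.gen f τ) r.1 = zv z r.2)
    (hl : ty = false → ∀ r ∈ lrels, ev (tokv A.gen f τ) r ∈ L) {ρ : Rule} (e : ruleChk iv rels lrels idx ρ = true) :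
    RuleOK A ty f τ z L ρ := by
  unfold ruleChk at e
  refine ⟨fun h0 => ?_, fun h1 t => ?_⟩
  · rw [if_pos h0] at e
    simp only [Bool.and_eq_true, decide_eq_true_eq] at e
    obtain ⟨⟨e1, e2⟩, e3⟩ := e
    have hr := rel_getD hrel ρ.ri
    generalize rels.getD ρ.ri ([], []) = r at *
    have k1 : ev (tokv A.gen f τ) (if ρ.iv then invT iv r.1 else r.1) =
        (zv z (if ρ.iv then r.2 else mulV (Int.negSucc 0) r.2))⁻¹ := by
      cases ρ.iv
      · simp [hr, zv_mul hz]
      · simp [ev_invT A.gen f τ hiv h256, hr]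
    generalize (if ρ.iv then invT iv r.1 else r.1) = r1 at *
    generalize (if ρ.iv then r.2 else mulV (Int.negSucc 0) r.2) = v1 at *
    have k2 : ev (tokv A.gen f τ) (r1.drop ρ.rot ++ r1.take ρ.rot) = (zv z v1)⁻¹ := by
      rw [← List.take_append_drop ρ.rot r1, ev_append] at k1
      rw [ev_append, eq_inv_mul_of_mul_eq k1, mul_assoc, ← cm (inv_mem (zv_mem hz v1))]
      group
    generalize r1.drop ρ.rot ++ r1.take ρ.rot = r2 at *
    have k3 : tau τ ρ.eps = zv z v1 * ev (tokv A.gen f τ) (if ρ.eps = 0 then r2 else r2.dropLast) := by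
      rcases he : ρ.eps with _ | j
      · simp [k2, tau]
      · rw [he] at e1
        simp only [Nat.add_one_ne_zero, if_false, false_or, Nat.add_sub_cancel] at e1 ⊢
        rw [e1, ev_append, ev_singleton, tokv, if_neg (by omega), Nat.add_sub_cancel_left, tk_odd] at k2
        rw [tau, mul_inv_eq_iff_eq_mul.1 k2]; group
    rw [k3, subB_spec hz hrel idx ρ.sb, ev_split, e2, zv_eqV hz e3, zv_add hz]
    group
  · rw [if_neg (by omega), if_pos h1] at e
    simp only [Bool.and_eq_true, decide_eq_true_eq] at e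
    have k : ev (tokv A.gen f τ) (lrels.getD ρ.ri []) ∈ L := by
      by_cases h : ρ.ri < lrels.length
      · rw [List.getD_eq_getElem _ _ h]; exact hl t _ (List.getElem_mem _)
      · rw [List.getD_eq_default _ _ (by omega)]; exact one_mem _
    rwa [subB_spec hz hrel idx ρ.sb, ev_split, e.1, zv_eqV hz e.2, zv_nil, one_mul] at k

theorem env_of_chk (hB : A.IsBase B) (hiv : ∀ a, A.gen (iv a) = (A.gen a)⁻¹) (hz : ∀ i, z i ∈ Subgroup.center Γ)
    (hrel : ∀ r ∈ rels, ev (tokv A.gen f τ) r.1 = zv z r.2) (hL : ty = false → ∀ g, f g ∈ L)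
    (hl : ty = false → ∀ r ∈ lrels, ev (tokv A.gen f τ) r ∈ L) (e1 : allLt (fun a => blt (iv a) 256) 256 = true)
    (e2 : rules.all (ruleChk iv rels lrels idx) = true) : Env A iv B ty rules f τ z L :=
  ⟨hB, hiv, hz, hL, fun j => ruleOK_of_chk hz hiv (fun a ha => (blt_iff _ _).1 ((allLt_iff _ _).1 e1 a ha)) hrel hl
    (Tr.all_get e2 j)⟩

theorem exported (hz : ∀ i, z i ∈ Subgroup.center Γ) (hrel : ∀ r ∈ rels, ev (tokv A.gen f τ) r.1 = zv z r.2) {N : ℕ}
    (S : ∀ j, j < N → Sem A ty facts nd rules f τ z L (facts.get j)) {xs : List (ℕ × List ℕ × List ℤ)}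
    (e : allL (expChk facts rules rels idx N) xs = true) :
    ∀ r ∈ xs.map Prod.snd, ev (tokv A.gen f τ) r.1 = zv z r.2 := by
  intro r hr
  obtain ⟨x, hx, rfl⟩ := List.mem_map.1 hr
  have := (allL_iff _ _).1 e x hx
  unfold expChk at this
  simp only [Bool.and_eq_true, decide_eq_true_eq, blt_iff, beq_iff] at this
  obtain ⟨⟨⟨e1, e2⟩, e3⟩, e4⟩ := this
  rw [subB_spec hz hrel idx (rules.get (frl (facts.get x.1).hd)).sb, ev_split, e3, zv_eqV hz e4, zv_add hz,
    (S _ e1).2.2.2 e2]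

theorem relations (hz : ∀ i, z i ∈ Subgroup.center Γ) {N : ℕ}
    (S : ∀ j, j < N → Sem A ty facts nd rules f τ z L (facts.get j)) {xs : List (ℕ × List ℤ)}
    (e : allL (relChk facts N) xs = true) : ∀ v ∈ xs.map Prod.snd, zv z v = 1 := by
  intro r hr
  obtain ⟨x, hx, rfl⟩ := List.mem_map.1 hr
  have := (allL_iff _ _).1 e x hx
  unfold relChk at this
  simp only [Bool.and_eq_true, blt_iff, beq_iff] at this
  rw [zv_eqV hz this.2, (S _ this.1.1).2.2.1 this.1.2]

end

/-! ### Closure -/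

theorem closure_subset_of_finite {Γ : Type*} [Group Γ] {S T : Set Γ} (hS : S.Finite) (h1 : (1 : Γ) ∈ S)
    (h : ∀ t ∈ T, ∀ s ∈ S, s * t ∈ S) : (Subgroup.closure T : Set Γ) ⊆ S := by
  let K : Subgroup Γ :=
    { carrier := {g | ∀ s ∈ S, s * g ∈ S}
      one_mem' := fun s hs => by simpa using hs
      mul_mem' := fun {a b} ha hb s hs => by rw [← mul_assoc]; exact hb _ (ha s hs)
      inv_mem' := fun {a} ha s hs => by
        have := ((hS.injOn_iff_bijOn_of_mapsTo (f := fun s => s * a) ha).1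
          (fun _ _ _ _ e => mul_right_cancel e)).surjOn hs
        obtain ⟨s', h1, h2⟩ := this
        rw [← h2]; simpa using h1 }
  have : Subgroup.closure T ≤ K := (Subgroup.closure_le K).2 h
  intro g hg
  simpa using this hg 1 h1

/-- The forest over the points, for the node `e`. -/
noncomputable def forChk (app : ℕ → ℕ → ℕ) (iv : ℕ → ℕ) (facts : Tr Fact) (N e eps x0 w : ℕ) (fin : List ℕ)
    (tb : ℕ → ℕ) (i : ℕ) : Bool :=
  force (tb i) fun en => force (Nat.shiftRight en 9) fun j => band (blt j N)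
    (Fact.rec (motive := fun _ => Bool) (fun hd u h _ _ _ => band (Nat.beq (fkd hd) 0) (band (Nat.beq (fe hd) e)
      (Nat.rec (motive := fun _ => Bool)
        (band (Nat.beq (ft hd) e) (band (Nat.beq h 1)
          (apS app iv (Nat.land (Nat.shiftRight en 8) 1) u [Nat.mul w i] fun l =>
            allL (fun y => blt (Nat.land (tb (Nat.div y w)) 255) (Nat.land en 255)) l)))
        (fun _ _ => band (Nat.beq (feps hd) eps) (band (memL (ft hd) fin)
          (apW app u [x0] fun l => eqL l [Nat.mul w i]))) (feps hd)))) (facts.get j))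

/-- The letters of a list have commutation facts. -/
noncomputable def dlChk (facts : Tr Fact) (N eps : ℕ) (x : ℕ × ℕ) : Bool :=
  blt x.2 N && Nat.beq (fkd (facts.get x.2).hd) 1 && Nat.beq (feps (facts.get x.2).hd) eps && blt x.1 256 &&
    Nat.beq (facts.get x.2).u (256 + x.1)

/-- One row of an explicit coset table. -/
noncomputable def rowChk (facts : Tr Fact) (N Np nJ : ℕ) (pts : Tr (ℕ × ℕ)) (J : List (ℕ × ℕ)) (tb : ℕ → ℕ)
    (i : ℕ) : Bool :=
  force i fun i => allL (fun x => force (tb (Nat.add (Nat.mul i nJ) x.2)) fun en =>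
    force (Nat.land en 16777215) fun j => force (Nat.shiftRight en 24) fun i' => band (blt j N) (band (blt i' Np)
      (Fact.rec (motive := fun _ => Bool) (fun hd u h _ _ _ => band (Nat.beq (fkd hd) 0) (band (Nat.beq (feps hd) x.1)
        (band (Nat.beq (fe hd) (pts.get i).1) (band (Nat.beq u (pts.get i).2)
          (band (Nat.beq (ft hd) (pts.get i').1) (Nat.beq h (pts.get i').2)))))) (facts.get j)))) J

section
variable {H X Γ : Type*} [Group H] [MulAction H X] [Group Γ] {A : Act H X} {iv : ℕ → ℕ} {ty : Bool}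
  {facts : Tr Fact} {nd : ℕ → ℕ} {rules : Tr Rule} {f : H →* Γ} {τ z : ℕ → Γ} {L : Subgroup Γ}

/-- The stabiliser of the first base point is generated by the letters of the lower levels. -/
theorem fix_le [Finite H] {l : Lvl} {C : List Lvl} (h : ChainOK A (l :: C) []) (hc : Nat.card H ≤ prodN (l :: C))
    {K : Subgroup H} (hK : ∀ l' ∈ C, ∀ a ∈ l'.S, A.gen a ∈ K) {g : H} (hg : g • A.pt l.b = A.pt l.b) : g ∈ K := by
  have h1 := h.1.le_card_orbit (K := ⊤) (fun _ _ => Subgroup.mem_top _)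
  have h2 := ChainOK.prodN_le h.2 hK
  have h3 := card_fix_cons (A := A) ⊤ [] l.b
  have h4 : Nat.card ↥(⊤ ⊓ A.fix [] : Subgroup H) = Nat.card H := by rw [A.fix_nil, inf_idem, Subgroup.card_top]
  have e : prodN (l :: C) = l.N * prodN C := rfl
  have h5 : Nat.card ↥(⊤ ⊓ A.fix [l.b] : Subgroup H) ≤ prodN C := by
    have : l.N * Nat.card ↥(⊤ ⊓ A.fix [l.b] : Subgroup H) ≤ l.N * prodN C := by
      rw [← e]; exact le_trans (Nat.mul_le_mul_right _ h1) (by rw [← h3, h4]; exact hc)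
    exact Nat.le_of_mul_le_mul_left this h.1.N_pos
  have h6 : K ⊓ A.fix [l.b] = ⊤ ⊓ A.fix [l.b] :=
    Subgroup.eq_of_le_of_card_ge (inf_le_inf_right _ le_top) (le_trans h5 h2)
  have : g ∈ ⊤ ⊓ A.fix [l.b] := ⟨Subgroup.mem_top _, fun b hb => by rw [List.mem_singleton.1 hb]; exact hg⟩
  rw [← h6] at this
  exact this.1

variable (f) in
/-- The elements that pass the element `t`, up to central elements of `M`. -/
def passes (t : Γ) (M : Subgroup Γ) : Subgroup H where
  carrier := {g | ∃ ζ ∈ M, ζ ∈ Subgroup.center Γ ∧ ∃ h, f g * t = ζ * t * f h}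
  one_mem' := ⟨1, one_mem _, one_mem _, 1, by simp⟩
  mul_mem' := by
    rintro a b ⟨ζ, h1, h2, h, e⟩ ⟨ζ', h1', h2', h', e'⟩
    refine ⟨ζ' * ζ, mul_mem h1' h1, mul_mem h2' h2, h * h', ?_⟩
    rw [map_mul, map_mul, mul_assoc, e', ← mul_assoc, ← mul_assoc, cm h2', mul_assoc ζ', e]; group
  inv_mem' := by
    rintro a ⟨ζ, h1, h2, h, e⟩
    refine ⟨ζ⁻¹, inv_mem h1, inv_mem h2, h⁻¹, ?_⟩
    rw [map_inv, map_inv, inv_mul_eq_iff_eq_mul, ← mul_assoc, ← mul_assoc, cm (inv_mem h2), mul_assoc ζ⁻¹, e]; group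

variable {N : ℕ} (S : ∀ j, j < N → Sem A ty facts nd rules f τ z L (facts.get j)) (hz : ∀ i, z i ∈ Subgroup.center Γ)
  {M : Subgroup Γ} (hM : ∀ E μ, PP ty f L E μ → μ ∈ M) (hM2 : ∀ i, z i ∈ M)
include S hz hM2

theorem stab_passes [Finite H] {l : Lvl} {C : List Lvl} (h : ChainOK A (l :: C) [])
    (hc : Nat.card H ≤ prodN (l :: C)) {eps : ℕ} {xs : List (ℕ × ℕ)} (e1 : chainIn (xs.map Prod.fst) C = true)
    (e2 : allL (dlChk facts N eps) xs = true) {g : H} (hg : g • A.pt l.b = A.pt l.b) :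
    g ∈ passes f (tau τ eps) M := by
  refine fix_le h hc (fun l' hl a ha => ?_) hg
  obtain ⟨x, hx, rfl⟩ := List.mem_map.1 (chainIn_mem e1 l' hl a ha)
  have := (allL_iff _ _).1 e2 x hx
  unfold dlChk at this
  simp only [Bool.and_eq_true, blt_iff, beq_iff] at this
  obtain ⟨⟨⟨⟨k1, k2⟩, k3⟩, k4⟩, k5⟩ := this
  have k6 := (S _ k1).2.1 k2
  unfold Sem1 at k6
  rw [k5, pw_letter _ k4, k3] at k6
  exact ⟨_, zv_mem hM2 _, zv_mem hz _, _, k6⟩

include hM

omit hz in
theorem forest_sound (hiv : ∀ a, A.gen (iv a) = (A.gen a)⁻¹) {n w : ℕ} (hw : 0 < w)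
    (hok : ∀ x, A.ok x ↔ okc n w x) (hs : ∀ p : X, ∃ i, i < n ∧ p = A.pt (w * i)) {e eps x0 : ℕ} (hx : A.ok x0)
    (hK : ∀ g : H, g • A.pt x0 = A.pt x0 → g ∈ passes f (tau τ eps) M) {fin : List ℕ} {tb : ℕ → ℕ}
    (e1 : allRange (forChk A.app iv facts N e eps x0 w fin tb) 0 n = true) (g : H) :
    ∃ e' ∈ fin, ∃ μ ∈ M, ∃ h, cn A facts nd f τ e * f g * tau τ eps = μ * cn A facts nd f τ e' * f h := by
  rw [allRange_iff] at e1
  suffices key : ∀ r i, i < n → Nat.land (tb i) 255 = r → ∀ g : H, g • A.pt x0 = A.pt (w * i) →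
      ∃ e' ∈ fin, ∃ μ ∈ M, ∃ h, cn A facts nd f τ e * f g * tau τ eps = μ * cn A facts nd f τ e' * f h by
    obtain ⟨i, h1, h2⟩ := hs (g • A.pt x0)
    exact key _ i h1 rfl g h2
  intro r
  induction r using Nat.strong_induction_on with
  | _ r ih =>
    intro i hi hr g hg
    have e2 := e1 i (Nat.zero_le _) (by omega)
    unfold forChk at e2
    simp only [force_eq] at e2
    rw [band_eq, band_eq, band_eq, blt_iff, beq_iff, beq_iff] at e2
    obtain ⟨k1, k2, k3, k4⟩ := e2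
    obtain ⟨μ, m1, m2⟩ := (S _ k1).1 k2
    have hoi : A.ok (w * i) := (hok _).2 ⟨i, hi, rfl⟩
    generalize facts.get (Nat.shiftRight (tb i) 9) = F at *
    have hμ : zv z F.v * μ ∈ M := mul_mem (zv_mem hM2 _) (hM _ _ m1)
    rcases he : feps F.hd with _ | j
    · rw [he] at k4 m2
      simp only [Nat.rec_zero, band_eq, beq_iff] at k4
      obtain ⟨k5, k6, k7⟩ := k4
      obtain ⟨l, a1, a2⟩ := apS_spec hiv (PL.one (B := [w * i]) (by simpa using hoi)) k7
      cases a1 with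
      | cons a3 a4 =>
        rename_i y l'
        obtain ⟨i', b1, rfl⟩ := (hok _).1 a3.1
        have a5 := (blt_iff _ _).1 ((allL_iff _ _).1 a2 _ List.mem_cons_self)
        have : Nat.div (w * i') w = i' := Nat.mul_div_cancel_left i' hw
        rw [this, hr] at a5
        obtain ⟨e', c1, μ', c2, h, c3⟩ := ih _ a5 i' b1 rfl (sg (Nat.land (Nat.shiftRight (tb i) 8) 1)
          (pw A.gen F.u) * g) (by rw [mul_smul, hg, ← a3.2, mul_one])
        rw [k3, k5, k6, pw_one, map_one, tau, mul_one, mul_one] at m2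
        have m3 : ∃ ν ∈ M, cn A facts nd f τ e * f (sg (Nat.land (Nat.shiftRight (tb i) 8) 1) (pw A.gen F.u)) =
            ν * cn A facts nd f τ e := by
          unfold sg; split_ifs
          · exact ⟨_, hμ, m2⟩
          · refine ⟨_, inv_mem hμ, ?_⟩
            rw [map_inv, mul_inv_eq_iff_eq_mul, mul_assoc, m2]; group
        obtain ⟨ν, n1, n2⟩ := m3
        refine ⟨e', c1, ν⁻¹ * μ', mul_mem (inv_mem n1) c2, h, ?_⟩
        rw [map_mul, ← mul_assoc, n2] at c3
        rw [mul_assoc ν⁻¹, mul_assoc ν⁻¹, ← c3]; group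
    · rw [he] at k4
      simp only [band_eq, beq_iff, memL_iff] at k4
      obtain ⟨k5, k6, k7⟩ := k4
      obtain ⟨l, a1, a2⟩ := apW_spec (PL.one (B := [x0]) (by simpa using hx)) k7
      rw [eqL_iff] at a2
      subst a2
      cases a1 with
      | cons a3 a4 =>
        obtain ⟨ζ, z1, z2, h, z3⟩ := hK ((pw A.gen F.u)⁻¹ * g)
          (by rw [mul_smul, hg, inv_smul_eq_iff]; simpa using a3.2.symm)
        rw [he, k5, k3] at m2
        refine ⟨_, k6, ζ * (zv z F.v * μ), mul_mem z1 hμ, pw A.gen F.h * h, ?_⟩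
        calc _ = cn A facts nd f τ e * f (pw A.gen F.u) * (f ((pw A.gen F.u)⁻¹ * g) * tau τ eps) := by
              rw [map_mul, map_inv]; group
          _ = (cn A facts nd f τ e * f (pw A.gen F.u) * ζ) * tau τ eps * f h := by rw [z3]; group
          _ = ζ * (cn A facts nd f τ e * f (pw A.gen F.u) * tau τ eps) * f h := by rw [cm z2]; group
          _ = _ := by rw [m2, map_mul]; group

omit S hz hM hM2 in
/-- A closed table of double cosets: the group generated by the model and the extra letter is finite. -/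
theorem finite_of_cover [Finite H] [Finite M] {t : Γ} {fin : List ℕ} (h0 : 0 ∈ fin)
    (h : ∀ e ∈ fin, ∀ g, ∃ e' ∈ fin, ∃ μ ∈ M, ∃ h, cn A facts nd f τ e * f g * t = μ * cn A facts nd f τ e' * f h) :
    Finite (Subgroup.closure (Set.range f ∪ {t})) := by
  let S : Set Γ := Set.range fun x : M × {e // e ∈ fin} × H => (x.1 : Γ) * cn A facts nd f τ x.2.1 * f x.2.2
  have hS : S.Finite := Set.finite_range _
  refine (hS.subset (closure_subset_of_finite hS ⟨(1, ⟨0, h0⟩, 1), by simp [cn_zero]⟩ ?_)).to_subtype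
  rintro t' (⟨g, rfl⟩ | rfl) _ ⟨⟨μ, ⟨e, he⟩, g'⟩, rfl⟩
  · exact ⟨(μ, ⟨e, he⟩, g' * g), by simp [mul_assoc]⟩
  · obtain ⟨e', h1, μ', h2, g, h3⟩ := h e he g'
    refine ⟨(μ * ⟨μ', h2⟩, ⟨e', h1⟩, g), ?_⟩
    simp only [Subgroup.coe_mul]
    rw [mul_assoc (μ : Γ), mul_assoc (μ : Γ), mul_assoc (μ : Γ), mul_assoc (μ : Γ), h3]

omit hz in
/-- A closed explicit coset table: the group generated by the listed extra letters is finite. -/
theorem finite_of_rows [Finite M] {Np nJ : ℕ} {pts : Tr (ℕ × ℕ)} {J : List (ℕ × ℕ)} {tb : ℕ → ℕ}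
    (h0 : pts.get 0 = (0, 1)) (hN : 0 < Np) (e : allRange (rowChk facts N Np nJ pts J tb) 0 Np = true) :
    Finite (Subgroup.closure {t | ∃ x ∈ J, t = tau τ x.1}) := by
  let S' : Set Γ := Set.range fun x : M × Fin Np =>
    (x.1 : Γ) * cn A facts nd f τ (pts.get x.2).1 * f (pw A.gen (pts.get x.2).2)
  have hS : S'.Finite := Set.finite_range _
  refine (hS.subset (closure_subset_of_finite hS ⟨(1, ⟨0, hN⟩), by simp [h0, cn_zero, pw_one]⟩ ?_)).to_subtype
  rintro _ ⟨x, hx, rfl⟩ _ ⟨⟨ν, i⟩, rfl⟩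
  have e1 := (allRange_iff _ _ _).1 e i (Nat.zero_le _) (by simp)
  unfold rowChk at e1
  rw [force_eq, allL_iff] at e1
  have e2 := e1 x hx
  simp only [force_eq, band_eq, blt_iff, beq_iff] at e2
  obtain ⟨k1, k2, k3, k4, k5, k6, k7, k8⟩ := e2
  obtain ⟨μ, m1, m2⟩ := (S _ k1).1 k3
  rw [k4, k5, k6, k7, k8] at m2
  generalize facts.get (Nat.land (tb (Nat.add (Nat.mul i nJ) x.2)) 16777215) = F at m1 m2
  refine ⟨(ν * ⟨zv z F.v * μ, mul_mem (zv_mem hM2 _) (hM _ _ m1)⟩, ⟨_, k2⟩), ?_⟩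
  simp only [Subgroup.coe_mul]
  rw [mul_assoc (ν : Γ), mul_assoc (ν : Γ), mul_assoc (ν : Γ), mul_assoc (ν : Γ), m2]

end

theorem act_surj {n w : ℕ} [NeZero n] {app : ℕ → ℕ → ℕ} {r k : ℕ} {partner : ℕ → ℕ} {slp : ℕ → Bool × List ℕ}
    (h : TabOK n w app r k partner slp) (p : Fin n) : ∃ i, i < n ∧ p = h.act.pt (w * i) :=
  ⟨p, p.2, (ptc_mul' h.w_pos p).symm⟩

end Cfsg.Agent.DC
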