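import Cfsg.Agent.Lib.DC.Pres
import Cfsg.Agent.Lib.Mult.Glue

/-! Groups with a perfect derived subgroup and cyclic abelianisation. -/

set_option autoImplicit false

namespace Cfsg.Agent.DC
open Cfsg.Agent.CG Cfsg.Agent.TCX Cfsg.Agent.Mult
open scoped commutatorElement

/-- A coded action of a subgroup containing all letters. -/
def subAct {G X : Type*} [Group G] [MulAction G X] (A : Act G X) (K : Subgroup G) (h : ∀ a, A.gen a ∈ K) :
    Act K X where
  gen a := ⟨A.gen a, h a⟩
  app := A.app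
  ok := A.ok
  pt := A.pt
  ok_app := A.ok_app
  smul_pt := A.smul_pt
  inj := A.inj

theorem subAct_base {G X : Type*} [Group G] [MulAction G X] {A : Act G X} {K : Subgroup G} (h : ∀ a, A.gen a ∈ K)
    {B : List ℕ} (hB : A.IsBase B) : (subAct A K h).IsBase B :=
  ⟨hB.1, fun g hg => Subtype.ext (hB.2 g hg)⟩

/-- A word is a combination of relators in the abelianisation. -/
noncomputable def abW (R : List (List ℕ)) (x : List ℕ × List (ℤ × ℕ)) : Bool := eqV (cntV x.1) (combV R x.2)

theorem abW_mem {H : Type*} [Group H] {gen : ℕ → H} {R : List (List ℕ)} (hR : ∀ r ∈ R, ev gen r = 1)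
    {x : List ℕ × List (ℤ × ℕ)} (e : abW R x = true) : ev gen x.1 ∈ commutator H := by
  let y := fun a => Abelianization.of (gen a)
  have hz : ∀ i, y i ∈ Subgroup.center _ := fun i => Subgroup.mem_center_iff.2 fun g => mul_comm _ _
  have k1 : ∀ w, zv y (cntV w) = ev y w := fun w => by
    induction w with
    | nil => rfl
    | cons a w ih => rw [cntV, zv_add hz, zv_unit, ih, ev_cons]
  have k2 : ∀ cs, zv y (combV R cs) = 1 := fun cs => by
    induction cs with
    | nil => rfl
    | cons c cs ih =>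
      rw [combV, zv_add hz, zv_mul hz, k1, ev_nth (fun r hr => by rw [← map_ev, hR r hr, map_one]), ih, one_zpow,
        one_mul]
  rw [← Abelianization.ker_of, MonoidHom.mem_ker, map_ev, ← k1, zv_eqV hz e, k2]

theorem actW_mem {G X : Type*} [Group G] [MulAction G X] {A : Act G X} {R : List (List ℕ)}
    (hR : ∀ r ∈ R, ev A.gen r = 1) {xs : List (List ℕ × List (ℤ × ℕ))} (e : allL (abW R) xs = true)
    {wds : List (List ℕ)} (e0 : wds = xs.map Prod.fst) (a : ℕ) : (actW A wds).gen a ∈ commutator G := by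
  subst e0
  change ev A.gen (nth ([] :: xs.map Prod.fst) [] a) ∈ _
  rw [nth_eq]
  by_cases h : a < ([] :: xs.map Prod.fst).length
  · rw [List.getD_eq_getElem _ _ h]
    rcases List.mem_cons.1 (List.getElem_mem h) with h' | h'
    · rw [h']; exact one_mem _
    · obtain ⟨x, hx, h''⟩ := List.mem_map.1 h'
      rw [← h'']; exact abW_mem hR ((allL_iff _ _).1 e x hx)
  · rw [List.getD_eq_default _ _ (by omega)]; exact one_mem _

theorem der_gens {G X : Type*} [Group G] [MulAction G X] {A : Act G X} {wds : List (List ℕ)}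
    (hm : ∀ a, (actW A wds).gen a ∈ commutator G) {R : List (List ℕ)}
    (hR : ∀ r ∈ R, ev (subAct (actW A wds) _ hm).gen r = 1) {S : List ℕ} {t t' : ℕ} (ht : A.gen t' = (A.gen t)⁻¹)
    {xs : List (ℕ × List (ℤ × ℕ))} (e : allL (fun a => bor (Nat.beq a t) (bor (Nat.beq a t')
      (anyL (fun x => band (eqL (nth ([] :: wds) [] x.1) [a]) (abW R ([x.1], x.2))) xs))) S = true) :
    ∀ a ∈ S, A.gen a ∈ Subgroup.zpowers (A.gen t) ∨ ∃ d ∈ commutator (commutator G), A.gen a = d := by
  intro a ha
  have := (allL_iff _ _).1 e a ha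
  rw [bor_eq, bor_eq, beq_iff, beq_iff, anyL_iff] at this
  rcases this with rfl | rfl | ⟨x, -, hx⟩
  · exact Or.inl (Subgroup.mem_zpowers _)
  · exact Or.inl (ht ▸ inv_mem (Subgroup.mem_zpowers _))
  · rw [band_eq, eqL_iff] at hx
    refine Or.inr ⟨_, abW_mem hR hx.2, ?_⟩
    rw [ev_singleton]
    change _ = ev A.gen (nth ([] :: wds) [] x.1)
    rw [hx.1, ev_singleton]

theorem rels_sub {H Γ : Type*} [Group H] [Group Γ] {gen : ℕ → H} {f : H →* Γ} {τ : ℕ → Γ} {iv : ℕ → ℕ}
    (hiv : ∀ a, gen (iv a) = (gen a)⁻¹) (h256 : ∀ a, a < 256 → iv a < 256) {R : List (List ℕ × List ℤ)}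
    (h : ∀ r ∈ R, ev (tokv gen f τ) r.1 = zv (fun _ => 1) r.2) (ws : List (List ℕ)) {rels : List (List ℕ × List ℤ)}
    {hs : List (ℕ × Bool × List ℕ)}
    (e : dersChk (invTok iv) (R.map Prod.fst) (rels.map fun r => (subT (sbW iv ws) r.1).1) hs = true) :
    ∀ r ∈ rels, ev (tokv gen f fun j => ev (tokv gen f τ) (ws.getD j [])) r.1 = zv (fun _ => 1) r.2 := fun r hr => by
  rw [rel_sbW hz_one hiv h256, zv_one, zv_one, one_mul]
  refine ders_sound (tokv_inv gen f τ hiv h256) (fun w hw => ?_) e _ (List.mem_map_of_mem hr)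
  obtain ⟨x, hx, rfl⟩ := List.mem_map.1 hw
  rw [h x hx, zv_one]

theorem map_mem_of_gen {H Γ : Type*} [Group H] [Group Γ] {gen : ℕ → H} {S : List ℕ} (hS : cl gen S = ⊤) {f : H →* Γ}
    {L : Subgroup Γ} (h : ∀ a ∈ S, f (gen a) ∈ L) (g : H) : f g ∈ L :=
  cl_le (H := L.comap f) gen h (hS ▸ Subgroup.mem_top g)

theorem card_commutator {H : Type*} [Group H] {t : H} {n : ℕ}
    (h1 : ∀ h, Abelianization.of h ∈ Subgroup.zpowers (Abelianization.of t))
    (h2 : ∀ k : ℤ, Abelianization.of t ^ k = 1 → (n : ℤ) ∣ k) (h3 : t ^ n = 1) {N M : ℕ} (hN : Nat.card H = N)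
    (hn : 0 < n) (e : n * M = N) : Nat.card (commutator H) = M := by
  have k1 : orderOf (Abelianization.of t) = n :=
    Nat.dvd_antisymm (orderOf_dvd_of_pow_eq_one (by rw [← map_pow, h3, map_one]))
      (Int.natCast_dvd_natCast.1 (h2 _ (by rw [zpow_natCast, pow_orderOf_eq_one])))
  have k2 : Nat.card (H ⧸ commutator H) = n := by
    rw [← k1]
    exact (orderOf_eq_card_of_forall_mem_zpowers fun x => QuotientGroup.induction_on x h1).symm
  have := Subgroup.card_eq_card_quotient_mul_card_subgroup (commutator H)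
  rw [k2, hN, ← e] at this
  exact (Nat.eq_of_mul_eq_mul_left hn this).symm

theorem mb_of_derived {H : Type} [Group H] {gen : ℕ → H} {S : List ℕ} (hS : cl gen S = ⊤) {t : H}
    (h : ∀ a ∈ S, gen a ∈ Subgroup.zpowers t ∨ ∃ d ∈ commutator (commutator H), gen a = d)
    (hM : MB (commutator H) []) : MB H [] := by
  intro Γ _ _ σ hσ
  refine ⟨[], List.Forall₂.nil, ?_⟩
  have m1 : (commutator Γ).map σ = commutator H := by
    rw [commutator, Subgroup.map_commutator, ← MonoidHom.range_eq_map, MonoidHom.range_eq_top.2 hσ.1, commutator]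
  let N : Subgroup Γ := ⁅commutator Γ, commutator Γ⁆
  let N' : Subgroup H := ⁅commutator H, commutator H⁆
  have m2 : N.map σ = N' := by rw [Subgroup.map_commutator, m1]
  have : IsCyclic (H ⧸ N') := by
    refine ⟨QuotientGroup.mk t, fun x => QuotientGroup.induction_on x fun g => ?_⟩
    have : cl gen S ≤ (Subgroup.zpowers (QuotientGroup.mk' N' t)).comap (QuotientGroup.mk' N') := by
      apply cl_le
      intro a ha
      rcases h a ha with ⟨k, hk⟩ | ⟨d, hd, e⟩
      · exact ⟨k, by rw [← hk]; simp⟩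
      · have := Subgroup.mem_map_of_mem (commutator H).subtype hd
        rw [Subgroup.map_subtype_commutator] at this
        rw [Subgroup.mem_comap, e, show QuotientGroup.mk' N' d = 1 from (QuotientGroup.eq_one_iff _).2 this]
        exact one_mem _
    exact this (hS ▸ Subgroup.mem_top g)
  have hc := commutative_of_cyclic_center_quotient
    (QuotientGroup.map N N' σ (Subgroup.map_le_iff_le_comap.1 m2.le)) (fun x hx => by
      induction x using QuotientGroup.induction_on with
      | H p =>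
        rw [MonoidHom.mem_ker, QuotientGroup.map_mk, QuotientGroup.eq_one_iff, ← m2] at hx
        obtain ⟨q, q1, q2⟩ := hx
        have q3 : q⁻¹ * p ∈ Subgroup.center Γ := hσ.2.1 (by rw [MonoidHom.mem_ker, map_mul, map_inv, q2]; simp)
        have q4 : (p : Γ ⧸ N) = ((q⁻¹ * p : Γ) : Γ ⧸ N) := by
          rw [QuotientGroup.mk_mul, QuotientGroup.mk_inv, (QuotientGroup.eq_one_iff q).2 q1]; simp
        rw [q4, Subgroup.mem_center_iff]
        intro y
        induction y using QuotientGroup.induction_on with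
        | H y => rw [← QuotientGroup.mk_mul, ← QuotientGroup.mk_mul, Subgroup.mem_center_iff.1 q3])
  have m3 : commutator Γ ≤ N := by
    rw [commutator, Subgroup.commutator_le]
    intro p _ p' _
    rw [← QuotientGroup.eq_one_iff, ← QuotientGroup.mk'_apply, map_commutatorElement, commutatorElement_eq_one_iff_mul_comm]
    exact hc _ _
  let ρ : commutator Γ →* commutator H :=
    (σ.comp (commutator Γ).subtype).codRestrict _ fun x => m1 ▸ Subgroup.mem_map_of_mem σ x.2
  have hρ : IsStemExtension ρ := by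
    refine ⟨fun y => ?_, fun x hx => Subgroup.mem_center_iff.2 fun y => Subtype.ext
      (Subgroup.mem_center_iff.1 (hσ.2.1 (congrArg Subtype.val hx)) _), fun x _ => ?_⟩
    · obtain ⟨x, x1, x2⟩ : y.1 ∈ (commutator Γ).map σ := m1.ge y.2
      exact ⟨⟨x, x1⟩, Subtype.ext x2⟩
    · have := m3 x.2
      rw [show N = _ from (Subgroup.map_subtype_commutator _).symm] at this
      obtain ⟨y, y1, y2⟩ := this
      rwa [← show y = x from Subtype.ext y2]
  obtain ⟨ks, k1, k2⟩ := hM _ ρ hρ
  cases k1
  intro x hx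
  have := k2 (show (⟨x, hσ.2.2 hx⟩ : commutator Γ) ∈ ρ.ker from Subtype.ext hx)
  simpa using this

end Cfsg.Agent.DC
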