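import Cfsg.Agent.Lib.DC.Close

/-! Double coset enumeration: glue for generated certificates. -/

set_option autoImplicit false

namespace Cfsg.Agent.DC
open Cfsg.Agent.CG

/-- The inverse letter from a packed table. -/
noncomputable def ivX (T K a : ℕ) : ℕ := Nat.xor K (Nat.land (Nat.shiftRight T (Nat.mul 8 a)) 255)

theorem ivX_eq {T K : ℕ} {l : List ℕ} (h1 : allLt (fun a => Nat.beq (ivX T K a) (nth l K a)) 256 = true)
    (h2 : band (blt T (Nat.pow 2 2048)) (blt l.length 256) = true) (a : ℕ) : ivX T K a = nth l K a := by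
  by_cases h : a < 256
  · exact (beq_iff _ _).1 ((allLt_iff _ _).1 h1 a h)
  · rw [band_eq, blt_iff, blt_iff] at h2
    have e : Nat.shiftRight T (Nat.mul 8 a) = 0 := by
      change T >>> (8 * a) = 0
      rw [Nat.shiftRight_eq_div_pow]
      refine Nat.div_eq_of_lt (lt_of_lt_of_le h2.1 ?_)
      exact Nat.pow_le_pow_right (by norm_num) (by omega)
    rw [nth_eq, List.getD_eq_default _ _ (by omega), ivX, e]
    change K ^^^ (0 &&& 255) = K
    simp

theorem rels01 {H Γ : Type*} [Group H] [Group Γ] {gen : ℕ → H} {f : H →* Γ} {τ z : ℕ → Γ}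
    {rels : List (List ℕ × List ℤ)} (h : ∀ r ∈ rels, ev (tokv gen f τ) r.1 = zv z r.2) :
    ∀ r ∈ (([], []) :: ([256, 257], []) :: rels : List (List ℕ × List ℤ)), ev (tokv gen f τ) r.1 = zv z r.2 := by
  intro r hr
  rcases List.mem_cons.1 hr with rfl | hr
  · rfl
  rcases List.mem_cons.1 hr with rfl | hr
  · have h0 : tk τ 0 = τ 0 := tk_even τ 0
    have h1 : tk τ 1 = (τ 0)⁻¹ := tk_odd τ 0
    simp [tokv, h0, h1]
  · exact h r hr

theorem hM_I {H Γ : Type*} [Group H] [Group Γ] {f : H →* Γ} {L : Subgroup Γ} :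
    ∀ E μ, PP false f L E μ → μ ∈ L := fun _ _ h => h.2 rfl

theorem hz_one {Γ : Type*} [Group Γ] : ∀ i : ℕ, (fun _ => (1 : Γ)) i ∈ Subgroup.center Γ := fun _ => one_mem _

theorem all_nil {α : Type} {p : α → Prop} : ∀ x ∈ ([] : List α), p x := by simp

theorem all_cons {α : Type} {p : α → Prop} {a : α} {l : List α} (h : p a) (hl : ∀ x ∈ l, p x) : ∀ x ∈ a :: l, p x :=
  List.forall_mem_cons.2 ⟨h, hl⟩

end Cfsg.Agent.DC
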