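import Mathlib

/-! Small computations in central extensions. -/

set_option autoImplicit false

namespace Cfsg.Agent.DC
open scoped commutatorElement

variable {Γ : Type*} [Group Γ]

theorem conj_t {x t : Γ} (h2 : x⁻¹ * t * x * t * t = 1) : x⁻¹ * t * x = t⁻¹ * t⁻¹ :=
  calc _ = (x⁻¹ * t * x * t * t) * (t⁻¹ * t⁻¹) := by simp [pow_succ, mul_assoc]
    _ = _ := by rw [h2, one_mul]

theorem inv_rule {x t : Γ} (h1 : t ^ 5 = 1) (h2 : x⁻¹ * t * x * t * t = 1) : (x * x)⁻¹ * t * (x * x) = t⁻¹ :=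
  calc _ = x⁻¹ * (x⁻¹ * t * x) * x := by simp [pow_succ, mul_assoc]
    _ = x⁻¹ * (t⁻¹ * t⁻¹) * x := by rw [conj_t h2]
    _ = (x⁻¹ * t * x)⁻¹ * (x⁻¹ * t * x)⁻¹ := by simp [pow_succ, mul_assoc]
    _ = (t⁻¹ * t⁻¹)⁻¹ * (t⁻¹ * t⁻¹)⁻¹ := by rw [conj_t h2]
    _ = t⁻¹ * t ^ 5 := by simp [pow_succ, mul_assoc]
    _ = t⁻¹ := by rw [h1, mul_one]

theorem comm_rule {x y t : Γ} (h1 : t ^ 5 = 1) (h2 : x⁻¹ * t * x * t * t = 1) (h3 : t⁻¹ * y⁻¹ * t * y = 1) :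
    t⁻¹ * (x⁻¹ * y⁻¹ * x) * t * (x⁻¹ * y * x) = 1 := by
  have e2 : t = x⁻¹ * (t * t) * x :=
    calc t = (t⁻¹ * t⁻¹) * (t⁻¹ * t⁻¹) * t ^ 5 := by simp [pow_succ, mul_assoc]
      _ = (x⁻¹ * t * x) * (x⁻¹ * t * x) := by rw [h1, mul_one, conj_t h2]
      _ = _ := by simp [pow_succ, mul_assoc]
  have e3 : y⁻¹ * t * y = t :=
    calc _ = t * (t⁻¹ * y⁻¹ * t * y) := by simp [pow_succ, mul_assoc]
      _ = _ := by rw [h3, mul_one]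
  calc _ = t⁻¹ * (x⁻¹ * y⁻¹ * x) * (x⁻¹ * (t * t) * x) * (x⁻¹ * y * x) := by rw [← e2]
    _ = t⁻¹ * (x⁻¹ * ((y⁻¹ * t * y) * (y⁻¹ * t * y)) * x) := by simp [pow_succ, mul_assoc]
    _ = 1 := by rw [e3, ← e2, inv_mul_cancel]

variable {Z : Subgroup Γ} (hZ : Z ≤ Subgroup.center Γ)
include hZ

theorem cj {m : Γ} (h : m ∈ Z) (g : Γ) : g⁻¹ * m * g = m := by
  rw [mul_assoc, ← Subgroup.mem_center_iff.1 (hZ h) g, inv_mul_cancel_left]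

theorem cz {m : Γ} (h : m ∈ Z) (g : Γ) : Commute g m := Subgroup.mem_center_iff.1 (hZ h) g

theorem norm_t {x t : Γ} (h1 : t ^ 5 ∈ Z) (h2 : x⁻¹ * t * x * t * t ∈ Z) :
    ∃ μ ∈ Z, (t * μ) ^ 5 = 1 ∧ x⁻¹ * (t * μ) * x * (t * μ) * (t * μ) = 1 := by
  have e' : (t ^ 5) ^ 3 = (x⁻¹ * t * x * t * t) ^ 5 := by
    have := (cz hZ h2 (t⁻¹ * t⁻¹)).symm.mul_pow 5
    calc _ = (x⁻¹ * t ^ 5 * x) * (t ^ 5) ^ 2 := by rw [cj hZ h1, ← pow_succ']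
      _ = (x⁻¹ * t * x * t * t * (t⁻¹ * t⁻¹)) ^ 5 * (t ^ 5) ^ 2 := by simp [pow_succ, mul_assoc]
      _ = (x⁻¹ * t * x * t * t) ^ 5 * (t⁻¹ * t⁻¹) ^ 5 * (t ^ 5) ^ 2 := by rw [this]
      _ = _ := by simp [pow_succ, mul_assoc]
  generalize ha : t ^ 5 = a at h1 e'
  generalize hb : x⁻¹ * t * x * t * t = b at h2 e'
  have hb2 := inv_mem (mul_mem h2 h2)
  have hμ : a * (b * b)⁻¹ ∈ Z := mul_mem h1 hb2
  refine ⟨_, hμ, ?_, ?_⟩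
  · rw [(cz hZ hμ t).mul_pow, ha, (cz hZ hb2 a).mul_pow]
    calc _ = a ^ 3 * a ^ 3 * (b ^ 5 * b ^ 5)⁻¹ := by simp [pow_succ, mul_assoc]
      _ = 1 := by rw [e', mul_inv_cancel]
  · have e3 : (a * (b * b)⁻¹) ^ 3 = b⁻¹ := by rw [(cz hZ hb2 a).mul_pow, e']; simp [pow_succ, mul_assoc]
    generalize a * (b * b)⁻¹ = μ at *
    calc _ = x⁻¹ * t * x * t * t * ((x * t * t)⁻¹ * μ * (x * t * t)) * (t⁻¹ * μ * t) * μ := by simp [pow_succ, mul_assoc]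
      _ = b * μ ^ 3 := by rw [cj hZ hμ, cj hZ hμ, hb]; simp [pow_succ, mul_assoc]
      _ = 1 := by rw [e3, mul_inv_cancel]

theorem norm_z {j z t : Γ} (h0 : j⁻¹ * t * j = t⁻¹) (h1 : z * z ∈ Z) (h2 : (z * t) ^ 3 ∈ Z) (h3 : ⁅z⁻¹, j⁻¹⁆ ∈ Z) :
    ∃ ν ∈ Z, (z * ν * t) ^ 3 = ⁅z⁻¹, j⁻¹⁆ ∧ (z * ν) ^ 2 = ⁅z⁻¹, j⁻¹⁆ := by
  have k : j⁻¹ * z * j = z * ⁅z⁻¹, j⁻¹⁆ := by simp [commutatorElement_def, mul_assoc]
  generalize ⁅z⁻¹, j⁻¹⁆ = κ at *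
  generalize hs : z * z = s at h1
  generalize hd : (z * t) ^ 3 = d at h2
  have k2 : κ * κ = 1 := by
    refine left_eq_mul.1 (show s = s * (κ * κ) from ?_)
    calc s = j⁻¹ * s * j := (cj hZ h1 j).symm
      _ = (j⁻¹ * z * j) * (j⁻¹ * z * j) := by rw [← hs]; simp [pow_succ, mul_assoc]
      _ = z * z * (z⁻¹ * κ * z) * κ := by rw [k]; simp [pow_succ, mul_assoc]
      _ = _ := by rw [cj hZ h3, hs, mul_assoc]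
  have k3 : d * κ = (z * t⁻¹) ^ 3 :=
    calc _ = j⁻¹ * d * j * κ := by rw [cj hZ h2]
      _ = ((j⁻¹ * z * j) * (j⁻¹ * t * j)) ^ 3 * κ := by rw [← hd]; simp [pow_succ, mul_assoc]
      _ = (z * t⁻¹ * κ) ^ 3 * κ := by rw [k, h0, mul_assoc z, ← (cz hZ h3 t⁻¹).eq, mul_assoc z]
      _ = (z * t⁻¹) ^ 3 * (κ * κ) * (κ * κ) := by rw [(cz hZ h3 _).mul_pow]; simp [pow_succ, mul_assoc]
      _ = _ := by rw [k2, mul_one, mul_one]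
  have k4 : d⁻¹ = d * κ * (s ^ 3)⁻¹ :=
    calc d⁻¹ = (t⁻¹ * z * s⁻¹) ^ 3 := by rw [← hd, ← hs]; simp [pow_succ, mul_assoc]
      _ = z⁻¹ * (z * t⁻¹) ^ 3 * z * (s ^ 3)⁻¹ := by rw [(cz hZ (inv_mem h1) _).mul_pow]; simp [pow_succ, mul_assoc]
      _ = _ := by rw [← k3, cj hZ (mul_mem h2 h3)]
  have k5 : s ^ 3 = d * d * κ :=
    calc _ = d * d⁻¹ * s ^ 3 := by simp [pow_succ, mul_assoc]
      _ = d * (d * κ * (s ^ 3)⁻¹) * s ^ 3 := by rw [← k4]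
      _ = _ := by simp [pow_succ, mul_assoc]
  have hν : s * d⁻¹ ∈ Z := mul_mem h1 (inv_mem h2)
  refine ⟨_, hν, ?_, ?_⟩
  · rw [mul_assoc, ← (cz hZ hν t).eq, ← mul_assoc, (cz hZ hν _).mul_pow, hd, (cz hZ (inv_mem h2) s).mul_pow, k5,
      (cz hZ h3 (d * d)).eq, ← mul_assoc, ← mul_assoc, (cz hZ h3 d).eq]
    simp [pow_succ, mul_assoc]
  · rw [(cz hZ hν _).mul_pow, (cz hZ (inv_mem h2) s).mul_pow, pow_two z, hs, ← mul_assoc, ← pow_succ', k5,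
      ← (cz hZ h3 (d * d)).symm.eq]
    simp [pow_succ, mul_assoc]

theorem comm_y {y t : Γ} (h1 : t ^ 5 = 1) (h2 : y ^ 6 = 1) (h3 : t⁻¹ * y⁻¹ * t * y ∈ Z) :
    t⁻¹ * y⁻¹ * t * y = 1 := by
  have e5 : (t⁻¹ * y⁻¹ * t * y) ^ 5 = 1 := by
    have : (t * (t⁻¹ * y⁻¹ * t * y)) ^ 5 = y⁻¹ * t ^ 5 * y := by simp [pow_succ, mul_assoc]
    rwa [(cz hZ h3 t).mul_pow, h1, one_mul, mul_one, inv_mul_cancel] at this
  have e6 : (t⁻¹ * y⁻¹ * t * y) ^ 6 = 1 := by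
    have : ((t⁻¹ * y⁻¹ * t * y) * y⁻¹) ^ 6 = t⁻¹ * (y ^ 6)⁻¹ * t := by simp [pow_succ, mul_assoc]
    rwa [(cz hZ h3 y⁻¹).symm.mul_pow, inv_pow, h2, inv_one, mul_one, mul_one, inv_mul_cancel] at this
  rwa [pow_succ, e5, one_mul] at e6

end Cfsg.Agent.DC
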