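import Cfsg.Agent.Lib.DC.Pres
import Cfsg.Agent.Lib.DC.Hand
import Cfsg.Agent.Lib.DC.HN.Main
import Cfsg.Agent.Lib.Mult.HSd.Main
import Cfsg.Prelude.Def_Spor_HN

/-! The presented Harada–Norton group is finite and has trivial multiplier. -/

set_option autoImplicit false
set_option maxRecDepth 100000
set_option linter.unusedSectionVars false

namespace Cfsg.Agent.DC.HNG
open Cfsg.Agent.CG Cfsg.Agent.TCX Cfsg.Agent.Mult
open scoped commutatorElement

/-- The token of a generator. -/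
def code : Spor.HN.Gen → ℕ
  | .x => 0
  | .y => 2
  | .z => 4
  | .t => 256

def tab : List (Spor.HN.Gen × Bool) := [(.x, true), (.x, false), (.y, true), (.y, false), (.z, true)]
def gl : List Spor.HN.Gen := [.t]
def ws : List (List ℕ) := [[256]]
def h1 : List (ℕ × Bool × List ℕ) := [(14,false,[])]
def h2 : List (ℕ × Bool × List ℕ) := [(14,false,[]),(14,false,[]),(14,false,[]),(0,false,[]),(1,false,[]),(2,false,[]),(3,false,[]),(4,false,[]),(5,false,[]),(7,false,[]),(8,false,[]),(9,false,[]),(10,false,[]),(11,false,[]),(12,false,[]),(13,false,[])]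
def h3 : List (ℕ × Bool × List ℕ) := [(3,false,[]),(4,false,[]),(5,false,[]),(6,false,[]),(7,false,[]),(8,false,[]),(16,false,[]),(9,false,[]),(10,false,[]),(11,false,[]),(12,false,[]),(13,false,[]),(14,false,[]),(15,false,[])]
def R1 : List (List ℕ) := [[256,256,256,256,256],[1,256,0,256,256],[257,3,256,2],[4,256,4,256,4,256]]

section
variable {H : Type} [Group H] {gen : ℕ → H} (e1 : gen 1 = (gen 0)⁻¹) (e3 : gen 3 = (gen 2)⁻¹)
include e1 e3

theorem R1_iff {Γ : Type*} [Group Γ] (f : H →* Γ) (t : Γ) :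
    (∀ r ∈ R1, ev (tokv gen f fun _ => t) r = 1) ↔ t ^ 5 = 1 ∧ (f (gen 0))⁻¹ * t * f (gen 0) * t * t = 1 ∧
      t⁻¹ * (f (gen 2))⁻¹ * t * f (gen 2) = 1 ∧ (f (gen 4) * t) ^ 3 = 1 := by
  simp [R1, tokv, tk, sg, e1, e3, pow_succ, mul_assoc]

theorem R2 {Γ : Type*} [Group Γ] {f : H →* Γ} {t : Γ} (h : ∀ r ∈ R1, ev (tokv gen f fun _ => t) r = 1) :
    ∀ r ∈ [256, 1, 1, 256, 0, 0] :: [257, 1, 3, 0, 256, 1, 2, 0] :: R1, ev (tokv gen f fun _ => t) r = 1 := by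
  obtain ⟨k1, k2, k3, -⟩ := (R1_iff e1 e3 f t).1 h
  refine all_cons ?_ (all_cons ?_ h)
  · simpa [tokv, tk, sg, e1, mul_assoc] using mul_eq_one_comm.1 (eq_inv_iff_mul_eq_one.1 (inv_rule k1 k2))
  · simpa [tokv, tk, sg, e1, e3, mul_assoc] using comm_rule k1 k2 k3

theorem lifts [Finite H] (hM : MB H [])
    (c1 : ∀ h, Abelianization.of h ∈ Subgroup.zpowers (Abelianization.of (gen 4)))
    (c2 : ∀ k : ℤ, Abelianization.of (gen 4) ^ k = 1 → ((2 : ℕ) : ℤ) ∣ k) (p2 : gen 4 ^ 2 = 1)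
    (q3 : ev gen [0, 0, 4] = ev gen [4, 0, 0]) (q6 : ev gen [2, 2, 2, 2, 2, 2] = 1) {G Γ : Type} [Group G] [Group Γ]
    [Finite Γ] {σ : Γ →* G} (hσ : IsStemExtension σ) {φ : H →* G} {t0 : G}
    (h1 : ∀ r ∈ R1, ev (tokv gen φ fun _ => t0) r = 1) :
    ∃ (f : H →* Γ) (t : Γ), (∀ h, σ (f h) = φ h) ∧ σ t = t0 ∧ ∀ r ∈ R1, ev (tokv gen f fun _ => t) r = 1 := by
  obtain ⟨k1, k2, k3, k4⟩ := (R1_iff e1 e3 φ t0).1 h1
  obtain ⟨t, rfl⟩ := hσ.1 t0
  obtain ⟨x, hx⟩ := hσ.1 (φ (gen 0))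
  obtain ⟨z, hz⟩ := hσ.1 (φ (gen 4))
  have p3 : ⁅(gen 4)⁻¹, (gen 0 * gen 0)⁻¹⁆ = 1 := by
    rw [commutatorElement_eq_one_iff_commute]
    exact Commute.inv_inv (by simpa [mul_assoc, commute_iff_eq] using q3.symm)
  have p6 : gen 2 ^ 6 = 1 := by simpa [pow_succ, mul_assoc] using q6
  obtain ⟨μ, m1, m2, m3⟩ := norm_t hσ.2.1 (x := x) (t := t) (by simpa [MonoidHom.mem_ker] using k1)
    (by simpa [MonoidHom.mem_ker, hx] using k2)
  have ht : σ (t * μ) = σ t := by rw [map_mul, MonoidHom.mem_ker.1 m1, mul_one]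
  generalize t * μ = t' at m2 m3 ht
  obtain ⟨ν, n1, n2, n3⟩ := norm_z hσ.2.1 (z := z) (inv_rule m2 m3)
    (by rw [MonoidHom.mem_ker, map_mul, hz, ← map_mul, ← pow_two, p2, map_one])
    (by simpa [MonoidHom.mem_ker, hz, ht] using k4)
    (by
      rw [MonoidHom.mem_ker, map_commutatorElement, map_inv, map_inv, map_mul, hx, hz, ← map_mul, ← map_inv, ← map_inv,
        ← map_commutatorElement, p3, map_one])
  obtain ⟨f, hf, f4⟩ := exists_lift hM hσ.1 hσ.2.1 φ (t := gen 4) (t' := z * ν)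
    (by rw [map_mul, MonoidHom.mem_ker.1 n1, mul_one, hz]) c1 c2 (c := (gen 4)⁻¹)
    (d := (gen 0 * gen 0)⁻¹) (by simp [hz]) (by simp [hx]) n3 (p2.trans p3.symm)
  refine ⟨f, t', hf, ht, (R1_iff e1 e3 f t').2 ⟨m2, ?_, ?_, ?_⟩⟩
  · have := conj_congr hσ.2.1 (x := x⁻¹) (x' := (f (gen 0))⁻¹) (by simp [hf, hx]) t'
    simp only [inv_inv] at this
    rw [← this, m3]
  · exact comm_y hσ.2.1 m2 (by rw [← map_pow, p6, map_one]) (by simpa [MonoidHom.mem_ker, hf, ht] using k3)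
  · rw [f4, n2, ← n3, ← f4, ← map_pow, p2, map_one]

end

variable [_root_.Fact (Bounds CG.HSx.tcR CG.HSx.tcS 177408000)]

theorem model : ∃ f : CG.HSx.PG →* Spor.HN,
    (∀ r ∈ R1, ev (tokv CG.HSx.act.gen f fun _ => tauG Spor.HN.edges Spor.HN.extra gl 0) r = 1) ∧
    ∀ g, ev (tokv CG.HSx.act.gen f fun _ => tauG Spor.HN.edges Spor.HN.extra gl 0) (sbW HN.iv ws (code g)).1 =
      PresentedGroup.of g :=
  exists_model CG.HSx.bounds CG.HSx.rels CG.HSx.clS CG.HSx.card.ge HN.h256 (tab := tab)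
    (letter_inv (I := [.z]) (by decide +kernel) (sq_of_mem (by decide +kernel)) (ivX_ge HN.c0 HN.c1 (by decide +kernel)))
    (by intro g; cases g <;> rfl) rfl (h1 := h1) (h2 := h2) (by decide +kernel) (by decide +kernel)
    (by decide +kernel) (by intro g; cases g <;> decide +kernel) (by decide +kernel)

theorem finite : Finite Spor.HN := by
  obtain ⟨f, h1, h2⟩ := model
  have : Finite f.range := Finite.of_surjective _ f.rangeRestrict_surjective
  exact finite_of_model h2 (HN.finite (L := f.range) (z := fun _ => 1)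
    (τ := fun _ => tauG Spor.HN.edges Spor.HN.extra gl 0) (fun _ => one_mem _) hz_one
    (rels_one (rels := HN.rels) (R2 (HSx.hinv 0) (HSx.hinv 2) h1) (by decide +kernel)) (fun g => ⟨g, rfl⟩)
    (by simp [HN.lrels]))

theorem ker_eq_bot (Γ : Type) [Group Γ] [Finite Γ] (σ : Γ →* Spor.HN) (hσ : IsStemExtension σ) : σ.ker = ⊥ := by
  obtain ⟨φ, h1, h2⟩ := model
  obtain ⟨f, t, hf, ht, hr⟩ := lifts (HSx.hinv 0) (HSx.hinv 2) (HSd.mb_up Mult.HSd.mb) HSd.cyc HSd.ord HSd.pow_t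
    (HSx.base.ev_eq (by decide +kernel)) (HSx.rels _ (by decide +kernel)) hσ h1
  exact ker_eq_bot_of_lift CG.HSx.rels HN.hiv HN.h256 h2 hσ hf ht hr (hs := h3) (by decide +kernel) (by decide +kernel)

end Cfsg.Agent.DC.HNG
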