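import Cfsg.Agent.Lib.DC.Der
import Cfsg.Agent.Lib.DC.J4a.Main
import Cfsg.Agent.Lib.DC.J4b.Main
import Cfsg.Agent.Lib.DC.J4c.Main
import Cfsg.Agent.Lib.DC.J4T.Main
import Cfsg.Agent.Lib.Mult.M24p.Main
import Cfsg.Agent.Lib.TCX.M24p
import Cfsg.Prelude.Def_Spor_J4

/-! The presented Janko group `J₄` is finite and has trivial multiplier. -/

set_option autoImplicit false
set_option maxRecDepth 100000

namespace Cfsg.Agent.DC.J4G
open Cfsg.Agent.CG Cfsg.Agent.TCX Cfsg.Agent.Mult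

/-- The token of a generator. -/
def code : Spor.J4.Gen → ℕ
  | .x => 0
  | .y => 1
  | .t => 256

def tab : List (Spor.J4.Gen × Bool) := [(.x, true), (.y, true), (.y, false)]
def gl : List Spor.J4.Gen := [.t]
def ws : List (List ℕ) := [[256]]
def h1 : List (ℕ × Bool × List ℕ) := [(12,false,[])]
def h2 : List (ℕ × Bool × List ℕ) := [(12,false,[]),(12,false,[]),(1,false,[]),(2,false,[]),(3,false,[]),(4,false,[]),(5,false,[]),(6,false,[]),(7,false,[]),(8,false,[]),(9,false,[]),(10,false,[]),(11,false,[])]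
def h3 : List (ℕ × Bool × List ℕ) := [(13,false,[]),(2,false,[]),(3,false,[]),(4,false,[]),(5,false,[]),(6,false,[]),(7,false,[]),(8,false,[]),(9,false,[]),(10,false,[]),(11,false,[]),(12,false,[])]
def ab : List (ℕ × ℤ × List (ℤ × ℕ)) := [(0,0,[(311,0),(276,1),(23,2),(1,3),((-23),6)]),(1,0,[((-14),0),((-12),1),((-1),2),(1,6)]),(2,0,[(14,0),(13,1),(1,2),((-1),6)])]
def lam : List ℤ := [(-1),0,0,1,0]
def ws2 : List (List ℕ) := [[1,0,1,0,2,0,2,0,2,0,2,256,1,0,1,0,1,0,1,0,2,0,1,0,1,0,2,0,2,0,2,0,2,256,1,0,1,0,1,0,1,0,2,0,1,0,1,0,2,0,2,0,2,0,2,256,1,0,1,0,1,0,1,0,2,0],[0],[1]]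
def h4 : List (ℕ × Bool × List ℕ) := [(0,false,[]),(1,false,[]),(2,false,[]),(3,false,[]),(4,false,[]),(5,false,[]),(6,false,[]),(7,false,[]),(8,false,[]),(8,false,[])]

theorem model : ∃ f : CG.M24p.PG →* Spor.J4,
    (∀ r ∈ J4T.rels.map Prod.fst, ev (tokv CG.M24p.act.gen f fun _ => tauG Spor.J4.edges Spor.J4.extra gl 0) r = 1) ∧
    ∀ g, ev (tokv CG.M24p.act.gen f fun _ => tauG Spor.J4.edges Spor.J4.extra gl 0) (sbW J4c.iv ws (code g)).1 =
      PresentedGroup.of g :=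
  exists_model CG.M24p.bounds CG.M24p.rels CG.M24p.clS CG.M24p.card.ge J4c.h256 (tab := tab)
    (letter_inv (I := [.x]) (by decide +kernel) (sq_of_mem (by decide +kernel)) (ivX_ge J4c.c0 J4c.c1 (by decide +kernel)))
    (by intro g; cases g <;> rfl) rfl (h1 := h1) (h2 := h2) (by decide +kernel) (by decide +kernel)
    (by decide +kernel) (by intro g; cases g <;> decide +kernel) (by decide +kernel)

theorem mem_L {H Γ : Type*} [Group H] [Group Γ] {gen : ℕ → H} (e2 : gen 2 = (gen 1)⁻¹) (f : H →* Γ) (τ : ℕ → Γ) :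
    (∀ a ∈ [0, 1, 2], f (gen a) ∈ Subgroup.closure
      {t | ∃ x ∈ J4b.J, t = tau (fun j => ev (tokv gen f τ) (ws2.getD j [])) x.1}) ∧
    ∀ r ∈ J4c.lrels, ev (tokv gen f τ) r ∈ Subgroup.closure
      {t | ∃ x ∈ J4b.J, t = tau (fun j => ev (tokv gen f τ) (ws2.getD j [])) x.1} := by
  have k : f (gen 1) ∈ Subgroup.closure
      {t | ∃ x ∈ J4b.J, t = tau (fun j => ev (tokv gen f τ) (ws2.getD j [])) x.1} :=
    Subgroup.subset_closure ⟨(3, 2), by decide, (ev_singleton (tokv gen f τ) 1).symm⟩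
  refine ⟨all_cons (Subgroup.subset_closure ⟨(2, 1), by decide, (ev_singleton (tokv gen f τ) 0).symm⟩)
    (all_cons k (all_cons (by rw [e2, map_inv]; exact inv_mem k) all_nil)), ?_⟩
  exact all_cons (Subgroup.subset_closure ⟨(1, 0), by decide, rfl⟩) all_nil

theorem finite : Finite Spor.J4 := by
  obtain ⟨f, h1, h2⟩ := model
  have : Finite f.range := Finite.of_surjective _ f.rangeRestrict_surjective
  generalize tauG Spor.J4.edges Spor.J4.extra gl 0 = t at h1 h2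
  have k1 := J4a.exp (z := fun _ => 1) hz_one (rels_one (rels := J4a.rels) h1 (by decide +kernel))
  have k2 := J4b.finite (L := f.range) (fun _ => one_mem _) hz_one
    (rels_sub (rels := J4b.rels) J4c.hiv J4c.h256 k1 ws2 (hs := h4) (by decide +kernel)) (fun g => ⟨g, rfl⟩)
    (by simp [J4b.lrels])
  have k3 := mem_L (CG.M24p.hinv 1) f (fun _ => t)
  exact finite_of_model h2 (@J4c.finite _ _ _ f (fun _ => t) (fun _ => 1) _ k2 (fun _ => one_mem _) hz_one
    (rels_one (rels := J4c.rels) h1 (by decide +kernel)) (map_mem_of_gen CG.M24p.clS k3.1) k3.2)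

theorem ker_eq_bot (Γ : Type) [Group Γ] [Finite Γ] (σ : Γ →* Spor.J4) (hσ : IsStemExtension σ) : σ.ker = ⊥ := by
  obtain ⟨φ, h1, h2⟩ := model
  obtain ⟨f, hf⟩ := exists_lift_perfect Mult.M24p.mb hσ.1 hσ.2.1 φ
    (ab_perfect CG.M24p.rels CG.M24p.clS (t := 0) (xs := ab) (by decide +kernel) (by decide +kernel) (by decide +kernel))
  obtain ⟨t, ht⟩ := hσ.1 (tauG Spor.J4.edges Spor.J4.extra gl 0)
  obtain ⟨t', k1, k2⟩ := normalise hσ.2.1 hf (t := t) (rels := J4T.rels) (ht ▸ h1) (fun z hz hr => J4T.rel hz hr)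
    (by decide +kernel) (lam := lam) (by decide +kernel)
  exact ker_eq_bot_of_lift CG.M24p.rels J4c.hiv J4c.h256 h2 hσ hf (k1.trans ht) k2 (hs := h3) (by decide +kernel)
    (by decide +kernel)

end Cfsg.Agent.DC.J4G
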