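import Cfsg.Agent.Lib.DC.Pres
import Cfsg.Agent.Lib.DC.Ly.Main
import Cfsg.Agent.Lib.DC.LyT.Main
import Cfsg.Agent.Lib.Mult.G25.Main
import Cfsg.Agent.Lib.TCX.G25.Main
import Cfsg.Prelude.Def_Spor_Ly

/-! The presented Lyons group is finite and has trivial multiplier. -/

set_option autoImplicit false
set_option maxRecDepth 100000

namespace Cfsg.Agent.DC.LyG
open Cfsg.Agent.CG Cfsg.Agent.TCX Cfsg.Agent.Mult

instance factB : _root_.Fact (Bounds CG.G25.tcR CG.G25.tcS 5859000000) :=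
  ⟨by
    have h := TCX.G25.bounds0
    rwa [show TCX.G25.R0 = CG.G25.tcR by decide +kernel] at h⟩

/-- The token of a generator. -/
def code : Spor.Ly.Gen → ℕ
  | .a => 0
  | .b => 2
  | .c => 4
  | .d => 6
  | .z => 256
  | .e => 8
  | .a1 => 258
  | .a2 => 260
  | .a3 => 262
  | .a4 => 264
  | .c1 => 266
  | .c2 => 9
  | .c3 => 11
  | .c4 => 13
  | .c5 => 15
  | .u => 268
  | .x23 => 270
  | .x24 => 272
  | .x25 => 274
  | .x29 => 276
  | .x47 => 278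
  | .x96 => 280
  | .x129 => 282
  | .x162 => 284
  | .x163 => 286
  | .x164 => 288
  | .x165 => 290
  | .x166 => 292
  | .x167 => 294
  | .x168 => 296
  | .x169 => 298
  | .x364 => 300
  | .x365 => 302
  | .x366 => 304
  | .x367 => 306
  | .x368 => 308
  | .x369 => 310
  | .x370 => 312
  | .x371 => 314

def tab : List (Spor.Ly.Gen × Bool) := [(.a, true), (.a, false), (.b, true), (.b, false), (.c, true), (.c, false), (.d, true), (.d, false), (.e, true), (.c2, true), (.c2, false), (.c3, true), (.c3, false), (.c4, true), (.c4, false), (.c5, true), (.c5, false)]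
def gl : List Spor.Ly.Gen := [.z, .a1, .a2, .a3, .a4, .c1, .u, .x23, .x24, .x25, .x29, .x47, .x96, .x129, .x162, .x163, .x164, .x165, .x166, .x167, .x168, .x169, .x364, .x365, .x366, .x367, .x368, .x369, .x370, .x371]
def ws : List (List ℕ) := [[256],[0],[2,0,3],[2,2,0,3,3],[3,3,0,2,2],[4],[0,0],[6],[7],[2,2,1,3,1,2,2,5,0,4,1,5,6,5,2,2,1,4,2],[0,2,1,2,2,1,2,2,5,0,4,2,4,3,6,4,3,3,6,4,2,4],[5,7,1,5,1,2,5,7],[2,6],[7,3],[1,3,1,2,5,3,0,5,2,0],[3,3,0,4,1,2,4,2],[1,3,1,4,0,2,0],[3,1,2,4,3,0,2],[2,2,1,3,4,2,0,4,3,3,5],[1,1,1],[2,1,3,1,1],[0,2,2,0,3,3,1],[1,6,3,5,1,2,5,7,2,5,3,1,5,0,3,0,2,0,3],[0,3,3,1,4,2,5,2,1,5,5,6,4,0,4,1,4,3,7],[2,0,3,1,3,3,1,3,4,2,2,4,2,6,4,3,3,6,4,2,4],[5,3,5,7,2,2,5,7,3,5,3,3,5,2,0,2,2,0,2,1,3],[1,5,7,0,5,3,0,5,7,1,5,0,4,3,3,5,3,1,3,3],[1,5,7,2,1,3,5,7,2,1,3,5,3,0,3,3,0,3],[7,0,4,2,4,1,5,7,0,3,1,4,1,3,3,1,2,1],[5,1,4,2,5,7,4,1,4,0,4,3,1,3,1,2]]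
def h1 : List (ℕ × Bool × List ℕ) := [(86,false,[]),(44,true,[0]),(45,true,[2,0,3]),(46,true,[2,2,0,3,3]),(47,true,[3,3,0,2,2]),(5,true,[4]),(48,true,[0,0]),(49,true,[6]),(50,true,[7]),(51,true,[2,2,1,3,1,2,2,5,0,4,1,5,6,5,2,2,1,4,2]),(52,true,[0,2,1,2,2,1,2,2,5,0,4,2,4,3,6,4,3,3,6,4,2,4]),(53,true,[5,7,1,5,1,2,5,7]),(54,true,[2,6]),(55,true,[7,3]),(56,true,[1,3,1,2,5,3,0,5,2,0]),(57,true,[3,3,0,4,1,2,4,2]),(58,true,[1,3,1,4,0,2,0]),(59,true,[3,1,2,4,3,0,2]),(60,true,[2,2,1,3,4,2,0,4,3,3,5]),(61,true,[1,1,1]),(62,true,[2,1,3,1,1]),(63,true,[0,2,2,0,3,3,1]),(64,true,[1,6,3,5,1,2,5,7,2,5,3,1,5,0,3,0,2,0,3]),(65,true,[0,3,3,1,4,2,5,2,1,5,5,6,4,0,4,1,4,3,7]),(66,true,[2,0,3,1,3,3,1,3,4,2,2,4,2,6,4,3,3,6,4,2,4]),(67,true,[5,3,5,7,2,2,5,7,3,5,3,3,5,2,0,2,2,0,2,1,3]),(68,true,[1,5,7,0,5,3,0,5,7,1,5,0,4,3,3,5,3,1,3,3]),(69,true,[1,5,7,2,1,3,5,7,2,1,3,5,3,0,3,3,0,3]),(70,true,[7,0,4,2,4,1,5,7,0,3,1,4,1,3,3,1,2,1]),(71,true,[5,1,4,2,5,7,4,1,4,0,4,3,1,3,1,2])]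
def h2 : List (ℕ × Bool × List ℕ) := [(86,false,[]),(86,false,[]),(86,false,[]),(86,false,[]),(86,false,[]),(86,false,[]),(86,false,[]),(86,false,[]),(86,false,[]),(0,false,[]),(1,false,[]),(2,false,[]),(3,false,[]),(4,false,[]),(6,false,[]),(7,false,[]),(8,false,[]),(9,false,[]),(10,false,[]),(11,false,[]),(12,false,[]),(13,false,[]),(14,false,[]),(15,false,[]),(16,false,[]),(17,false,[]),(18,false,[]),(19,false,[]),(20,false,[]),(21,false,[]),(22,false,[]),(23,false,[]),(24,false,[]),(25,false,[]),(26,false,[]),(27,false,[]),(28,false,[]),(30,false,[]),(31,false,[]),(32,false,[]),(33,false,[]),(34,false,[]),(35,false,[]),(36,false,[]),(37,false,[]),(38,false,[]),(39,false,[]),(40,false,[]),(41,false,[]),(42,false,[]),(43,false,[]),(72,false,[]),(73,false,[]),(74,false,[]),(75,false,[]),(76,false,[]),(77,false,[]),(78,false,[]),(79,false,[]),(80,false,[]),(81,false,[]),(82,false,[]),(83,false,[]),(84,false,[]),(85,false,[])]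
def h3 : List (ℕ × Bool × List ℕ) := [(9,false,[]),(10,false,[]),(11,false,[]),(12,false,[]),(13,false,[]),(65,false,[]),(14,false,[]),(15,false,[]),(16,false,[]),(17,false,[]),(18,false,[]),(19,false,[]),(20,false,[]),(21,false,[]),(22,false,[]),(23,false,[]),(24,false,[]),(25,false,[]),(26,false,[]),(27,false,[]),(28,false,[]),(29,false,[]),(30,false,[]),(31,false,[]),(32,false,[]),(33,false,[]),(34,false,[]),(35,false,[]),(36,false,[]),(65,false,[]),(37,false,[]),(38,false,[]),(39,false,[]),(40,false,[]),(41,false,[]),(42,false,[]),(43,false,[]),(44,false,[]),(45,false,[]),(46,false,[]),(47,false,[]),(48,false,[]),(49,false,[]),(50,false,[]),(65,false,[]),(65,false,[]),(65,false,[]),(65,false,[]),(65,false,[]),(65,false,[]),(65,false,[]),(65,false,[]),(65,false,[]),(65,false,[]),(65,false,[]),(65,false,[]),(65,false,[]),(65,false,[]),(65,false,[]),(65,false,[]),(65,false,[]),(65,false,[]),(65,false,[]),(65,false,[]),(65,false,[]),(65,false,[]),(65,false,[]),(65,false,[]),(65,false,[]),(65,false,[]),(65,false,[]),(65,false,[]),(51,false,[]),(52,false,[]),(53,false,[]),(54,false,[]),(55,false,[]),(56,false,[]),(57,false,[]),(58,false,[]),(59,false,[]),(60,false,[]),(61,false,[]),(62,false,[]),(63,false,[]),(64,false,[])]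
def ab : List (ℕ × ℤ × List (ℤ × ℕ)) := [(0,0,[((-4),0),(3661,1),(1118,2),(57,3),((-5625),4),(4894,5),(3013,6),(2266,7),(33,8),((-33),14),(181,30),(24,32),((-4894),33),((-2447),34),((-19),36),(1881,37),((-81),41),(3785,42),(33,45),((-18),49)]),(1,0,[(5,0),((-3661),1),((-1118),2),((-57),3),(5625,4),((-4894),5),((-3013),6),((-2266),7),((-33),8),(33,14),((-181),30),((-24),32),(4894,33),(2447,34),(19,36),((-1881),37),(81,41),((-3785),42),((-33),45),(18,49)]),(2,0,[((-1),0),(427,1),(130,2),(6,3),((-655),4),(570,5),(351,6),(264,7),(2,8),((-4),14),(21,30),(4,32),((-570),33),((-285),34),((-2),36),(219,37),((-10),41),(441,42),(4,45),((-2),49)]),(3,0,[(1,0),((-426),1),((-130),2),((-6),3),(655,4),((-570),5),((-351),6),((-264),7),((-2),8),(4,14),((-21),30),((-4),32),(570,33),(285,34),(2,36),((-219),37),(10,41),((-441),42),((-4),45),(2,49)]),(4,0,[(1,0),((-19),1),((-5),2),(30,4),((-26),5),((-16),6),((-12),7),((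-1),30),(26,33),(13,34),((-10),37),((-20),42)]),(5,0,[((-1),0),(19,1),(6,2),((-30),4),(26,5),(16,6),(12,7),(1,30),((-26),33),((-13),34),(10,37),(20,42)]),(6,0,[(1,0),((-990),1),((-302),2),((-15),3),(1522,4),((-1324),5),((-815),6),((-613),7),((-10),8),(9,14),((-49),30),((-6),32),(1324,33),(662,34),(5,36),((-509),37),(22,41),((-1024),42),((-9),45),(5,49)]),(7,0,[((-1),0),(990,1),(302,2),(16,3),((-1522),4),(1324,5),(815,6),(613,7),(10,8),((-9),14),(49,30),(6,32),((-1324),33),((-662),34),((-5),36),(509,37),((-22),41),(1024,42),(9,45),((-5),49)]),(8,0,[(1,0),((-221),1),((-67),2),((-3),3),(341,4),((-296),5),((-182),6),((-137),7),((-1),8),(2,14),((-11),30),((-2),32),(296,33),(148,34),(1,36),((-114),37),(5,41),((-229),42),((-2),45),(1,49)]),(9,0,[((-19),1),((-6),2),(30,4),((-26),5),((-16),6),((-12),7),(1,14),((-1),30),(26,33),(13,34),((-10),37),((-20),42)]),(10,0,[(19,1),(6,2),((-30),4),(27,5),(16,6),(12,7),((-1),14),(1,30),((-26),33),((-13),34),(10,37),(20,42)]),(11,0,[((-6),1),((-2),2),(9,4),((-8),5),((-5),6),((-4),7),(8,33),(4,34),((-3),37),((-6),42)]),(12,0,[(6,1),(2,2),((-9),4),(8,5),(6,6),(4,7),((-8),33),((-4),34),(3,37),(6,42)]),(13,0,[(1,1),((-3),4),(2,5),(1,6),(1,7),((-2),33),((-1),34),(1,37),(2,42)]),(14,0,[((-1),1),(3,4),((-2),5),((-1),6),(2,33),(1,34),((-1),37),((-2),42)]),(15,0,[(1,0),(2,8),((-1),32)]),(16,0,[((-1),0),((-1),8),(1,32)])]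
def lam : List ℤ := [0,0,0,0,0,0,0,0,(-1),1,0,0,0,0]

theorem model : ∃ f : CG.G25.PG →* Spor.Ly,
    (∀ r ∈ LyT.rels.map Prod.fst, ev (tokv CG.G25.act.gen f fun _ => tauG Spor.Ly.edges Spor.Ly.extra gl 0) r = 1) ∧
    ∀ g, ev (tokv CG.G25.act.gen f fun _ => tauG Spor.Ly.edges Spor.Ly.extra gl 0) (sbW Ly.iv ws (code g)).1 =
      PresentedGroup.of g :=
  exists_model CG.G25.bounds CG.G25.rels CG.G25.clS CG.G25.card.ge Ly.h256 (tab := tab)
    (letter_inv (I := [.e]) (by decide +kernel) (sq_of_mem (by decide +kernel)) (ivX_ge Ly.c0 Ly.c1 (by decide +kernel)))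
    (by intro g; cases g <;> rfl) rfl (h1 := h1) (h2 := h2) (by decide +kernel) (by decide +kernel)
    (by decide +kernel) (by intro g; cases g <;> decide +kernel) (by decide +kernel)

theorem finite : Finite Spor.Ly := by
  obtain ⟨f, h1, h2⟩ := model
  have : Finite f.range := Finite.of_surjective _ f.rangeRestrict_surjective
  exact finite_of_model h2 (Ly.finite (L := f.range) (z := fun _ => 1) (τ := fun _ => tauG Spor.Ly.edges Spor.Ly.extra gl 0)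
    (fun _ => one_mem _) hz_one
    (rels_one (rels := Ly.rels) h1 (by decide +kernel)) (fun g => ⟨g, rfl⟩) (by simp [Ly.lrels]))

theorem ker_eq_bot (Γ : Type) [Group Γ] [Finite Γ] (σ : Γ →* Spor.Ly) (hσ : IsStemExtension σ) : σ.ker = ⊥ := by
  obtain ⟨φ, h1, h2⟩ := model
  obtain ⟨f, hf⟩ := exists_lift_perfect Mult.G25.mb hσ.1 hσ.2.1 φ
    (ab_perfect CG.G25.rels CG.G25.clS (t := 0) (xs := ab) (by decide +kernel) (by decide +kernel) (by decide +kernel))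
  obtain ⟨t, ht⟩ := hσ.1 (tauG Spor.Ly.edges Spor.Ly.extra gl 0)
  obtain ⟨t', k1, k2⟩ := normalise hσ.2.1 hf (t := t) (rels := LyT.rels) (ht ▸ h1) (fun z hz hr => LyT.rel hz hr)
    (by decide +kernel) (lam := lam) (by decide +kernel)
  exact ker_eq_bot_of_lift CG.G25.rels Ly.hiv Ly.h256 h2 hσ hf (k1.trans ht) k2 (hs := h3) (by decide +kernel)
    (by decide +kernel)

end Cfsg.Agent.DC.LyG
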