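import Cfsg.Agent.Lib.DC.Glue
import Cfsg.Agent.Lib.TCX.Cert
import Cfsg.Agent.Lib.Mult.PB

/-! Presented groups over a model subgroup: lifts to central extensions and sections. -/

set_option autoImplicit false

namespace Cfsg.Agent.DC
open Cfsg.Agent.CG Cfsg.Agent.TCX Cfsg.Agent.Mult Cfsg.Spor
open scoped commutatorElement

/-! ### Lifting a subgroup with trivial multiplier -/

theorem exists_lift {H Γ G : Type} [Group H] [Group Γ] [Group G] [Finite H] [Finite Γ] (hM : MB H [])
    {σ : Γ →* G} (hs : Function.Surjective σ) (hc : σ.ker ≤ Subgroup.center Γ) (φ : H →* G) {t : H} {t' : Γ}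
    (ht : σ t' = φ t) {n : ℕ} (h1 : ∀ h, Abelianization.of h ∈ Subgroup.zpowers (Abelianization.of t))
    (h2 : ∀ k : ℤ, Abelianization.of t ^ k = 1 → (n : ℤ) ∣ k) {a b : Γ} {c d : H} (ha : σ a = φ c) (hb : σ b = φ d)
    (h3 : t' ^ n = ⁅a, b⁆) (h4 : t ^ n = ⁅c, d⁆) : ∃ f : H →* Γ, (∀ h, σ (f h) = φ h) ∧ f t = t' := by
  let P : Subgroup (Γ × H) := (σ.comp (MonoidHom.fst Γ H)).eqLocus (φ.comp (MonoidHom.snd Γ H))
  let π : P →* H := (MonoidHom.snd Γ H).comp P.subtype
  have hπ : Function.Surjective π := fun h => by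
    obtain ⟨γ, hγ⟩ := hs (φ h)
    exact ⟨⟨(γ, h), hγ⟩, rfl⟩
  have hk : π.ker ≤ Subgroup.center P := by
    rintro ⟨⟨γ, h⟩, e⟩ hx
    have hx' : h = 1 := hx
    subst hx'
    have e' : σ γ = 1 := e.trans (map_one φ)
    refine Subgroup.mem_center_iff.2 fun y => Subtype.ext (Prod.ext ?_ ?_)
    · exact Subgroup.mem_center_iff.1 (hc e') _
    · simp
  let T : P := ⟨(t', t), ht⟩
  have hT : Abelianization.of T ^ n = 1 := by
    have : T ^ n = ⁅(⟨(a, c), ha⟩ : P), (⟨(b, d), hb⟩ : P)⁆ := Subtype.ext (Prod.ext h3 h4)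
    rw [← map_pow, this, ← MonoidHom.mem_ker, Abelianization.ker_of]
    exact Subgroup.commutator_mem_commutator (Subgroup.mem_top _) (Subgroup.mem_top _)
  let Q : Subgroup P := (Subgroup.zpowers (Abelianization.of T)).comap Abelianization.of
  let ρ : Q →* H := π.comp Q.subtype
  have hρ : Function.Surjective ρ := fun h => by
    obtain ⟨k, e⟩ := Subgroup.mem_zpowers_iff.1 (h1 h)
    have : h * (t ^ k)⁻¹ ∈ (commutator P).map π := by
      rw [commutator, Subgroup.map_commutator, ← MonoidHom.range_eq_map, MonoidHom.range_eq_top.2 hπ,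
        ← commutator, ← Abelianization.ker_of, MonoidHom.mem_ker, map_mul, map_inv, map_zpow, e, mul_inv_cancel]
    obtain ⟨x, x1, x2⟩ := this
    rw [← Abelianization.ker_of] at x1
    refine ⟨⟨x * T ^ k, k, ?_⟩, ?_⟩
    · simp only [map_mul, map_zpow]; rw [MonoidHom.mem_ker.1 x1, one_mul]
    · change π (x * T ^ k) = h
      rw [map_mul, map_zpow, x2]
      exact inv_mul_cancel_right h _
  have hst : IsStemExtension ρ := by
    refine ⟨hρ, fun x hx => Subgroup.mem_center_iff.2 fun y =>
      Subtype.ext (Subgroup.mem_center_iff.1 (hk hx) _), fun x hx => ?_⟩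
    obtain ⟨k, e⟩ := Subgroup.mem_zpowers_iff.1 x.2
    have e1 := congrArg (Abelianization.map π) e
    rw [map_zpow, Abelianization.map_of, Abelianization.map_of, show π x = 1 from hx, map_one] at e1
    obtain ⟨m, rfl⟩ := h2 k e1
    rw [zpow_mul, zpow_natCast, hT, one_zpow, eq_comm, ← MonoidHom.mem_ker, Abelianization.ker_of] at e
    have hle : commutator P ≤ (commutator Q).map Q.subtype := by
      rw [commutator, Subgroup.commutator_le]
      intro p _ p' _
      obtain ⟨q, hq⟩ := hρ (π p)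
      obtain ⟨q', hq'⟩ := hρ (π p')
      exact ⟨⁅q, q'⁆, Subgroup.commutator_mem_commutator (Subgroup.mem_top _) (Subgroup.mem_top _),
        (map_commutatorElement _ _ _).trans (commutator_congr hk hq hq')⟩
    obtain ⟨y, y1, y2⟩ := hle e
    rwa [← show y = x from Subtype.ext y2]
  obtain ⟨ks, k1, k2⟩ := hM Q ρ hst
  cases k1
  have hi : Function.Injective ρ := by
    rw [← MonoidHom.ker_eq_bot_iff, eq_bot_iff]; simpa using k2
  let e := MulEquiv.ofBijective ρ ⟨hi, hρ⟩
  refine ⟨(MonoidHom.fst Γ H).comp (P.subtype.comp (Q.subtype.comp e.symm.toMonoidHom)), fun h => ?_, ?_⟩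
  · exact (e.symm h).1.2.trans (congrArg φ (e.apply_symm_apply h))
  · have : e.symm t = ⟨T, Subgroup.mem_zpowers _⟩ := by rw [MulEquiv.symm_apply_eq]; rfl
    simp [this, T]

theorem exists_lift_perfect {H Γ G : Type} [Group H] [Group Γ] [Group G] [Finite H] [Finite Γ] (hM : MB H [])
    {σ : Γ →* G} (hs : Function.Surjective σ) (hc : σ.ker ≤ Subgroup.center Γ) (φ : H →* G)
    (h1 : ∀ h : H, Abelianization.of h = 1) : ∃ f : H →* Γ, ∀ h, σ (f h) = φ h :=
  (exists_lift hM hs hc φ (t := 1) (t' := 1) (by simp) (n := 1) (fun h => by rw [h1 h]; exact one_mem _)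
    (fun k _ => by simp) (a := 1) (b := 1) (c := 1) (d := 1) (by simp) (by simp) (by simp) (by simp)).imp
    fun _ h => h.1

theorem ker_eq_bot_of_section {Γ G : Type*} [Group Γ] [Group G] {σ : Γ →* G} (hσ : IsStemExtension σ)
    (s : G →* Γ) (h : ∀ g, σ (s g) = g) : σ.ker = ⊥ := by
  have hle : commutator Γ ≤ s.range := by
    rw [commutator, Subgroup.commutator_le]
    intro p _ p' _
    exact ⟨⁅σ p, σ p'⁆, (map_commutatorElement _ _ _).trans (commutator_congr hσ.2.1 (h _) (h _))⟩
  rw [eq_bot_iff]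
  intro x hx
  obtain ⟨g, rfl⟩ := hle (hσ.2.2 hx)
  rw [MonoidHom.mem_ker, h] at hx
  rw [hx, map_one]; exact one_mem _

/-! ### Abelianisations -/

/-- A unit vector. -/
def unitV : ℕ → List ℤ
  | 0 => [1]
  | n + 1 => 0 :: unitV n

theorem zvF_unit {Γ : Type*} [Group Γ] (z : ℕ → Γ) (n i : ℕ) : zvF z i (unitV n) = z (i + n) := by
  induction n generalizing i with
  | zero => simp [unitV, zvF]
  | succ n ih => rw [unitV, zvF, ih, zpow_zero, one_mul, add_assoc, add_comm 1 n]

theorem zv_unit {Γ : Type*} [Group Γ] (z : ℕ → Γ) (n : ℕ) : zv z (unitV n) = z n := by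
  rw [zv, zvF_unit, zero_add]

/-- The letter counts of a word. -/
noncomputable def cntV : List ℕ → List ℤ
  | [] => []
  | a :: w => addV (unitV a) (cntV w)

/-- A combination of relators. -/
noncomputable def combV (R : List (List ℕ)) : List (ℤ × ℕ) → List ℤ
  | [] => []
  | c :: cs => addV (mulV c.1 (cntV (nth R [] c.2))) (combV R cs)

/-- The letter `x.1` is a power of the letter `t` in the abelianisation. -/
noncomputable def abChk (R : List (List ℕ)) (t : ℕ) (x : ℕ × ℤ × List (ℤ × ℕ)) : Bool :=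
  eqV (unitV x.1) (addV (mulV x.2.1 (unitV t)) (combV R x.2.2))

theorem ab_rel {A : Type*} [CommGroup A] {y : ℕ → A} {R : List (List ℕ)} (hR : ∀ r ∈ R, ev y r = 1) {t : ℕ}
    {x : ℕ × ℤ × List (ℤ × ℕ)} (e : abChk R t x = true) : y x.1 = y t ^ x.2.1 := by
  have hz : ∀ i, y i ∈ Subgroup.center A := fun i => Subgroup.mem_center_iff.2 fun g => mul_comm _ _
  have k1 : ∀ w, zv y (cntV w) = ev y w := fun w => by
    induction w with
    | nil => rfl
    | cons a w ih => rw [cntV, zv_add hz, zv_unit, ih, ev_cons]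
  have k2 : ∀ cs, zv y (combV R cs) = 1 := fun cs => by
    induction cs with
    | nil => rfl
    | cons c cs ih => rw [combV, zv_add hz, zv_mul hz, k1, ev_nth hR, ih, one_zpow, one_mul]
  have := zv_eqV hz e
  rwa [zv_add hz, zv_mul hz, zv_unit, zv_unit, k2, mul_one] at this

section ab
variable {H : Type*} [Group H] {gen : ℕ → H} {R : List (List ℕ)} {S : List ℕ} (hR : ∀ r ∈ R, ev gen r = 1)
  (hS : cl gen S = ⊤) {t : ℕ} {xs : List (ℕ × ℤ × List (ℤ × ℕ))} (e1 : eqL S (xs.map Prod.fst) = true)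
  (e2 : allL (abChk R t) xs = true)
include hR hS e1 e2

theorem ab_mem {M : Subgroup (Abelianization H)}
    (hM : ∀ x ∈ xs, Abelianization.of (gen t) ^ x.2.1 ∈ M) (h : H) : Abelianization.of h ∈ M := by
  have : cl gen S ≤ M.comap Abelianization.of := by
    apply cl_le
    intro a ha
    rw [(eqL_iff _ _).1 e1] at ha
    obtain ⟨x, hx, rfl⟩ := List.mem_map.1 ha
    have := ab_rel (y := fun a => Abelianization.of (gen a)) (fun r hr => by rw [← map_ev, hR r hr, map_one])
      ((allL_iff _ _).1 e2 x hx)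
    exact Subgroup.mem_comap.2 (this ▸ hM x hx)
  exact this (hS ▸ Subgroup.mem_top h)

theorem ab_cyclic (h : H) : Abelianization.of h ∈ Subgroup.zpowers (Abelianization.of (gen t)) :=
  ab_mem hR hS e1 e2 (fun _ _ => zpow_mem (Subgroup.mem_zpowers _) _) h

theorem ab_perfect (e3 : ∀ x ∈ xs, x.2.1 = 0) (h : H) : Abelianization.of h = 1 :=
  Subgroup.mem_bot.1 (ab_mem hR hS e1 e2 (fun x hx => by rw [e3 x hx, zpow_zero]; exact one_mem _) h)

end ab

theorem ab_order {H : Type*} [Group H] {gen : ℕ → H} {R : List (List ℕ)} {S : List ℕ} {N : ℕ} (hb : Bounds R S N)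
    (hR : ∀ r ∈ R, ev gen r = 1) (hS : cl gen S = ⊤) (hN : N ≤ Nat.card H) {n : ℕ} (c : ℕ → ZMod n)
    (hc : ∀ r ∈ R, ev (fun a => Multiplicative.ofAdd (c a)) r = 1) {t : ℕ} (ht : t ∈ S) (h1 : c t = 1) (k : ℤ)
    (hk : Abelianization.of (gen t) ^ k = 1) : (n : ℤ) ∣ k := by
  obtain ⟨χ, hχ⟩ := hb.lift hR hS hN _ hc
  have := congrArg (Abelianization.lift χ) hk
  rw [map_zpow, Abelianization.lift_apply_of, hχ t ht, h1, map_one (Abelianization.lift χ), ← ofAdd_zsmul, ofAdd_eq_one, zsmul_one] at this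
  exact (ZMod.intCast_zmod_eq_zero_iff_dvd k n).1 this

/-! ### Normalising the extra letter -/

/-- The correction of the tails for a rescaled extra letter. -/
noncomputable def sbN (lam : List ℤ) (a : ℕ) : List ℕ × List ℤ :=
  ([a], if a < 256 then [] else sgV (Nat.land (a - 256) 1) (mulV (Int.negSucc 0) lam))

/-- The relators hold after rescaling. -/
noncomputable def normChk (lam : List ℤ) (zs : List (List ℤ)) (r : List ℕ × List ℤ) : Bool :=
  band (eqL r.1 (subT (sbN lam) r.1).1) (anyL (eqV (addV (subT (sbN lam) r.1).2 r.2)) zs)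

/-- The tails are unit vectors. -/
noncomputable def unitChk (rels : List (List ℕ × List ℤ)) (r : List ℕ × List ℤ) : Bool :=
  anyL (fun i => band (eqL r.1 (nth rels ([], []) i).1) (eqV r.2 (unitV i))) (List.range rels.length)

theorem normalise {H Γ G : Type*} [Group H] [Group Γ] [Group G] {gen : ℕ → H} {σ : Γ →* G}
    (hc : σ.ker ≤ Subgroup.center Γ) {f : H →* Γ} {φ : H →* G} (hf : ∀ h, σ (f h) = φ h) {t : Γ}
    {rels : List (List ℕ × List ℤ)} (hr : ∀ r ∈ rels.map Prod.fst, ev (tokv gen φ fun _ => σ t) r = 1)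
    {zs : List (List ℤ)} (hz : ∀ z : ℕ → Γ, (∀ i, z i ∈ Subgroup.center Γ) →
      (∀ r ∈ rels, ev (tokv gen f fun _ => t) r.1 = zv z r.2) → ∀ v ∈ zs, zv z v = 1)
    (e1 : allL (unitChk rels) rels = true) {lam : List ℤ} (e2 : allL (normChk lam zs) rels = true) :
    ∃ t', σ t' = σ t ∧ ∀ r ∈ rels.map Prod.fst, ev (tokv gen f fun _ => t') r = 1 := by
  let z : ℕ → Γ := fun i => ev (tokv gen f fun _ => t) (nth rels ([], []) i).1
  have hσ : (fun a => σ (tokv gen f (fun _ => t) a)) = tokv gen φ fun _ => σ t := by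
    funext a; unfold tokv tk sg; split_ifs <;> simp [hf]
  have k1 : ∀ i, z i ∈ σ.ker := fun i => by
    rw [MonoidHom.mem_ker, map_ev, hσ, nth_eq]
    by_cases h : i < rels.length
    · rw [List.getD_eq_getElem _ _ h]; exact hr _ (List.mem_map_of_mem (List.getElem_mem _))
    · rw [List.getD_eq_default _ _ (by omega)]; rfl
  have k2 : ∀ i, z i ∈ Subgroup.center Γ := fun i => hc (k1 i)
  have k3 : ∀ r ∈ rels, ev (tokv gen f fun _ => t) r.1 = zv z r.2 := fun r h => by
    obtain ⟨i, -, e⟩ := (anyL_iff _ _).1 ((allL_iff _ _).1 e1 r h)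
    rw [band_eq, eqL_iff] at e
    rw [zv_eqV k2 e.2, zv_unit, e.1]
  refine ⟨t * (zv z lam)⁻¹, by rw [map_mul, map_inv, MonoidHom.mem_ker.1 (zv_mem k1 lam)]; simp, fun r h => ?_⟩
  obtain ⟨r, h', rfl⟩ := List.mem_map.1 h
  have e := (allL_iff _ _).1 e2 r h'
  unfold normChk at e
  rw [band_eq, eqL_iff, anyL_iff] at e
  obtain ⟨e3, v, v1, v2⟩ := e
  rw [ev_subT k2 (y' := tokv gen f fun _ => t) (sb := sbN lam) (fun a => ?_), ← e3, k3 r h', ← zv_add k2,
    zv_eqV k2 v2, hz z k2 k3 v v1]
  unfold sbN tokv tk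
  split_ifs with ha
  · simp [ha]
  · simp only [zv_sg k2, zv_mul k2, ev_singleton, ha, if_false]
    unfold sg
    split_ifs
    · simpa using cm (inv_mem (zv_mem k2 lam)) t
    · simp

/-! ### Presented groups -/

section pres
variable {α : Type} [DecidableEq α] (edges : List (α × ℕ × α)) (extra : List (FreeGroup α))

/-- The generators outside the model. -/
def tauG (gl : List α) (j : ℕ) : CoxPresented α edges extra :=
  match gl[j]? with
  | some g => PresentedGroup.of g
  | none => 1

/-- The defining relators of the auxiliary generators. -/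
def defW (ws : List (List ℕ)) : List (List ℕ) :=
  (List.range ws.length).map fun j => (256 + (2 * j + 1)) :: ws.getD j []

/-- The relators with the auxiliary generators eliminated. -/
noncomputable def relS (code : α → ℕ) (iv : ℕ → ℕ) (ws : List (List ℕ)) : List (List ℕ) :=
  (relWords code (invTok iv) edges extra).map fun w => (subT (sbW iv ws) w).1

/-- Tokens in `S` or the first extra letter. -/
noncomputable def tokOK (S : List ℕ) (w : List ℕ) : Bool :=
  allL (fun a => bor (band (memL a S) (blt a 256)) (bor (Nat.beq a 256) (Nat.beq a 257))) w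

variable {edges extra} {H : Type*} [Group H] {gen : ℕ → H} {iv : ℕ → ℕ} {R R' : List (List ℕ)} {S : List ℕ}
  {code : α → ℕ} {ws : List (List ℕ)}

theorem tokv_congr {H' Γ : Type*} [Group H'] [Group Γ] {gen' : ℕ → H'} {f : H →* Γ} {f' : H' →* Γ} {τ τ' : ℕ → Γ}
    (h1 : ∀ a ∈ S, f (gen a) = f' (gen' a)) (h2 : τ 0 = τ' 0) {w : List ℕ} (e : tokOK S w = true) :
    ev (tokv gen f τ) w = ev (tokv gen' f' τ') w := by
  refine ev_congr _ fun a ha => ?_
  have := (allL_iff _ _).1 e a ha
  rw [bor_eq, bor_eq, band_eq, memL_iff, blt_iff, beq_iff, beq_iff] at this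
  rcases this with h | rfl | rfl
  · simp [tokv, h.2, h1 a h.1]
  · exact (tk_even τ 0).trans (h2.trans (tk_even τ' 0).symm)
  · exact (tk_odd τ 0).trans ((congrArg _ h2).trans (tk_odd τ' 0).symm)

theorem tokv_mem {Γ : Type*} [Group Γ] {f : H →* Γ} {t : Γ} (w : List ℕ) :
    ev (tokv gen f fun _ => t) w ∈ Subgroup.closure (Set.range f ∪ {t}) := by
  induction w with
  | nil => exact one_mem _
  | cons a w ih =>
  rw [ev_cons]
  refine mul_mem ?_ ih
  unfold tokv tk
  split_ifs
  · exact Subgroup.subset_closure (Or.inl ⟨_, rfl⟩)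
  · exact sg_mem (g := t) (Subgroup.subset_closure (by simp)) _

theorem map_tokv {Γ G : Type*} [Group Γ] [Group G] {σ : Γ →* G} {f : H →* Γ} {φ : H →* G}
    (hf : ∀ h, σ (f h) = φ h) (τ : ℕ → Γ) (w : List ℕ) :
    σ (ev (tokv gen f τ) w) = ev (tokv gen φ fun j => σ (τ j)) w := by
  rw [map_ev]; congr 1
  funext a; unfold tokv tk sg; split_ifs <;> simp [hf]

/-- The model maps to the presented group; the generators are token words. -/
theorem exists_model {N : ℕ} (hb : Bounds R S N) (hR : ∀ r ∈ R, ev gen r = 1) (hS : cl gen S = ⊤)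
    (hN : N ≤ Nat.card H) (h256 : ∀ a, a < 256 → iv a < 256) {tab : List (α × Bool)} {gl : List α}
    (hl : ∀ a, letter edges extra tab (iv a) = (letter edges extra tab a)⁻¹)
    (hc : ∀ g, tokv (letter edges extra tab) (MonoidHom.id _) (tauG edges extra gl) (code g) = PresentedGroup.of g)
    (hlen : gl.length = ws.length) {h1 h2 : List (ℕ × Bool × List ℕ)}
    (e1 : dersChk (invTok iv) (relWords code (invTok iv) edges extra) (defW ws) h1 = true)
    (e2 : dersChk (invTok iv) (relS edges extra code iv ws) (R ++ R') h2 = true)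
    (e3 : allL (tokOK S) (R ++ R') = true) (e4 : ∀ g, tokOK S (sbW iv ws (code g)).1 = true)
    (e5 : allL (fun a => blt a 256) S = true) :
    ∃ f : H →* CoxPresented α edges extra, (∀ r ∈ R', ev (tokv gen f fun _ => tauG edges extra gl 0) r = 1) ∧
      ∀ g, ev (tokv gen f fun _ => tauG edges extra gl 0) (sbW iv ws (code g)).1 = PresentedGroup.of g := by
  set y := tokv (letter edges extra tab) (MonoidHom.id _) (tauG edges extra gl) with hy
  have k0 : ∀ a, y (invTok iv a) = (y a)⁻¹ := tokv_inv _ _ _ hl h256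
  have k1 := letter_rels k0 hc
  have k2 := ders_sound k0 k1 e1
  have k3 : tauG edges extra gl = fun j => ev y (ws.getD j []) := by
    funext j
    by_cases h : j < ws.length
    · have := k2 _ (List.mem_map.2 ⟨j, List.mem_range.2 h, rfl⟩)
      rw [ev_cons, hy, tokv, if_neg (by omega), Nat.add_sub_cancel_left, tk_odd, inv_mul_eq_one] at this
      exact this
    · rw [List.getD_eq_default _ _ (by omega), tauG, List.getElem?_eq_none (by omega)]; rfl
  have k4 : ∀ w, ev y w = ev y (subT (sbW iv ws) w).1 := fun w => by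
    have := rel_sbW (gen := letter edges extra tab) (f := MonoidHom.id _) (τ := tauG edges extra gl) hz_one hl h256 ws w
    rwa [← hy, ← k3, zv_one, one_mul] at this
  have k5 : ∀ r ∈ R ++ R', ev y r = 1 := ders_sound k0 (fun r hr => by
    obtain ⟨w, hw, rfl⟩ := List.mem_map.1 hr
    rw [← k4, k1 w hw]) e2
  obtain ⟨f, hf⟩ := hb.lift hR hS hN y fun r hr => k5 r (List.mem_append_left _ hr)
  have k6 : ∀ w, tokOK S w = true → ev (tokv gen f fun _ => tauG edges extra gl 0) w = ev y w := fun w hw =>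
    tokv_congr (gen' := letter edges extra tab) (f' := MonoidHom.id _) (τ := fun _ => tauG edges extra gl 0)
      (τ' := tauG edges extra gl) (fun a ha => by
      rw [hf a ha, hy, tokv, if_pos ((blt_iff _ _).1 ((allL_iff _ _).1 e5 a ha))]) rfl hw
  refine ⟨f, fun r hr => ?_, fun g => ?_⟩
  · rw [k6 r ((allL_iff _ _).1 e3 r (List.mem_append_right _ hr)), k5 r (List.mem_append_right _ hr)]
  · have := k4 [code g]
    rw [k6 _ (e4 g), ← hc g]
    simpa [subT] using this.symm

theorem finite_of_model {f : H →* CoxPresented α edges extra} {t : CoxPresented α edges extra} {wd : α → List ℕ}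
    (h : ∀ g, ev (tokv gen f fun _ => t) (wd g) = PresentedGroup.of g)
    (hf : Finite (Subgroup.closure (Set.range f ∪ {t}))) : Finite (CoxPresented α edges extra) := by
  have : Subgroup.closure (Set.range f ∪ {t}) = ⊤ := by
    rw [eq_top_iff, ← PresentedGroup.closure_range_of, Subgroup.closure_le]
    rintro _ ⟨g, rfl⟩
    rw [← h]; exact tokv_mem _
  rw [this] at hf
  exact Finite.of_equiv _ Subgroup.topEquiv.toEquiv

/-- Lifts of the model and of the extra letter satisfying the relators force a stem extension to be trivial. -/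
theorem ker_eq_bot_of_lift (hR : ∀ r ∈ R, ev gen r = 1) (hiv : ∀ a, gen (iv a) = (gen a)⁻¹)
    (h256 : ∀ a, a < 256 → iv a < 256) {φ : H →* CoxPresented α edges extra} {t : CoxPresented α edges extra}
    (h : ∀ g, ev (tokv gen φ fun _ => t) (sbW iv ws (code g)).1 = PresentedGroup.of g)
    {Γ : Type*} [Group Γ] {σ : Γ →* CoxPresented α edges extra} (hσ : IsStemExtension σ) {f : H →* Γ}
    (hf : ∀ h, σ (f h) = φ h) {t' : Γ} (ht : σ t' = t) (hr : ∀ r ∈ R', ev (tokv gen f fun _ => t') r = 1)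
    {hs : List (ℕ × Bool × List ℕ)} (e1 : dersChk (invTok iv) (R ++ R') (relS edges extra code iv ws) hs = true)
    (e2 : allL (allL fun a => blt a 256) R = true) : σ.ker = ⊥ := by
  have k0 := tokv_inv gen f (fun _ => t') hiv h256
  have k1 : ∀ r ∈ R ++ R', ev (tokv gen f fun _ => t') r = 1 := fun r h => by
    rcases List.mem_append.1 h with h | h
    · rw [← map_one f, ← hR r h, map_ev]
      exact ev_congr _ fun a ha => if_pos ((blt_iff _ _).1 ((allL_iff _ _).1 ((allL_iff _ _).1 e2 r h) a ha))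
    · exact hr r h
  have k2 := ders_sound k0 k1 e1
  have k3 := fun w => rel_sbW (gen := gen) (f := f) (τ := fun _ => t') hz_one hiv h256 ws w
  simp only [zv_one, one_mul] at k3
  have k4 := (relWords_iff (code := code) (tokv_inv gen f (fun j => ev (tokv gen f fun _ => t') (ws.getD j [])) hiv
    h256) edges extra).1 fun r hr => by rw [k3]; exact k2 _ (List.mem_map_of_mem hr)
  refine ker_eq_bot_of_section hσ (PresentedGroup.toGroup k4) fun g => ?_
  have : σ.comp (PresentedGroup.toGroup k4) = MonoidHom.id _ := by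
    ext g
    have := k3 [code g]
    simp only [ev_singleton, subT, List.append_nil] at this
    rw [MonoidHom.comp_apply, PresentedGroup.toGroup.of, this, map_tokv hf, ht, h, MonoidHom.id_apply]
  exact DFunLike.congr_fun this g

theorem sq_of_mem {I : List α} (h : ∀ g ∈ I, FreeGroup.of g * FreeGroup.of g ∈ extra) :
    ∀ g ∈ I, (PresentedGroup.of g : CoxPresented α edges extra) * PresentedGroup.of g = 1 := fun g hg => by
  have := PresentedGroup.one_of_mem (rels := coxRelators edges ∪ {r | r ∈ extra}) (Or.inr (h g hg))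
  rwa [map_mul] at this

end pres

theorem ivX_ge {T K n : ℕ} {l : List ℕ} (h1 : allLt (fun a => Nat.beq (ivX T K a) (nth l K a)) 256 = true)
    (h2 : band (blt T (Nat.pow 2 2048)) (blt l.length 256) = true)
    (h3 : band (Nat.ble n K) (allLt (fun a => bor (blt a n) (Nat.ble n (ivX T K a))) 256) = true) (a : ℕ)
    (ha : n ≤ a) : n ≤ ivX T K a := by
  rw [band_eq, ble_iff, allLt_iff] at h3
  by_cases h : a < 256
  · have := h3.2 a h
    rw [bor_eq, blt_iff, ble_iff] at this
    omega
  · rw [ivX_eq h1 h2]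
    rw [band_eq, blt_iff, blt_iff] at h2
    rw [nth_eq, List.getD_eq_default _ _ (by omega)]; exact h3.1

theorem rels_one {Γ : Type*} [Group Γ] {y : ℕ → Γ} {R : List (List ℕ)} (h : ∀ r ∈ R, ev y r = 1)
    {rels : List (List ℕ × List ℤ)} (e : allL (fun r => anyL (eqL r.1) R) rels = true) :
    ∀ r ∈ rels, ev y r.1 = zv (fun _ => 1) r.2 := fun r hr => by
  obtain ⟨w, h1, h2⟩ := (anyL_iff _ _).1 ((allL_iff _ _).1 e r hr)
  rw [zv_one, (eqL_iff _ _).1 h2, h w h1]

end Cfsg.Agent.DC
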