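import Cfsg.Agent.Lib.DC.Der
import Cfsg.Agent.Lib.DC.Hand
import Cfsg.Agent.Lib.DC.Tha.Main
import Cfsg.Agent.Lib.DC.Thb.Main
import Cfsg.Agent.Lib.DC.ThT.Main
import Cfsg.Agent.Lib.Mult.TDd.Main
import Cfsg.Agent.Lib.TCX.TD4.Main
import Cfsg.Prelude.Def_Spor_Th

/-! The presented Thompson group is finite and has trivial multiplier. -/

set_option autoImplicit false
set_option maxRecDepth 100000

namespace Cfsg.Agent.DC.ThG
open Cfsg.Agent.CG Cfsg.Agent.TCX Cfsg.Agent.Mult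
open scoped commutatorElement

instance factB : _root_.Fact (Bounds CG.TD4.tcR CG.TD4.tcS 634023936) :=
  ⟨by
    have h := TCX.TD4.bounds0
    rwa [show TCX.TD4.R0 = CG.TD4.tcR by decide +kernel] at h⟩

/-- The token of a generator. -/
def code : Spor.Th.Gen → ℕ
  | .a => 0
  | .b => 1
  | .c => 2
  | .d => 3
  | .e => 4
  | .s => 5
  | .t => 7
  | .u => 256

def tab : List (Spor.Th.Gen × Bool) := [(.a, true), (.b, true), (.c, true), (.d, true), (.e, true), (.s, true), (.s, false), (.t, true), (.t, false)]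
def gl : List Spor.Th.Gen := [.u]
def ws : List (List ℕ) := [[256]]
def h1 : List (ℕ × Bool × List ℕ) := [(39,false,[])]
def h2 : List (ℕ × Bool × List ℕ) := [(39,false,[]),(39,false,[]),(39,false,[]),(39,false,[]),(39,false,[]),(39,false,[]),(39,false,[]),(5,false,[]),(6,false,[]),(7,false,[]),(8,false,[]),(9,false,[]),(10,false,[]),(11,false,[]),(12,false,[]),(13,false,[]),(14,false,[]),(15,false,[]),(16,false,[]),(17,false,[]),(18,false,[]),(19,false,[]),(20,false,[]),(21,false,[]),(22,false,[]),(23,false,[]),(24,false,[]),(25,false,[]),(26,false,[]),(27,false,[]),(28,false,[]),(29,false,[]),(30,false,[]),(31,false,[]),(32,false,[]),(33,false,[]),(34,false,[]),(35,false,[]),(36,false,[]),(37,false,[]),(38,false,[])]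
def h3 : List (ℕ × Bool × List ℕ) := [(41,false,[]),(41,false,[]),(41,false,[]),(41,false,[]),(41,false,[]),(7,false,[]),(8,false,[]),(9,false,[]),(10,false,[]),(11,false,[]),(12,false,[]),(13,false,[]),(14,false,[]),(15,false,[]),(16,false,[]),(17,false,[]),(18,false,[]),(19,false,[]),(20,false,[]),(21,false,[]),(22,false,[]),(23,false,[]),(24,false,[]),(25,false,[]),(26,false,[]),(27,false,[]),(28,false,[]),(29,false,[]),(30,false,[]),(31,false,[]),(32,false,[]),(33,false,[]),(34,false,[]),(35,false,[]),(36,false,[]),(37,false,[]),(38,false,[]),(39,false,[]),(40,false,[])]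
def R1 : List (List ℕ) := [[256,256,2,0],[257,0,256,0],[257,2,256,2],[257,4,256,4],[3,4,257,3,256,3,4,257,3,256],[257,1,2,0,1,256,1,0,2,1,4],[3,257,3,1,2,0,1,3,256,3,1,0,2,1,2,4,3,257,3,1,2,0,1,4,257],[257,7,256,7],[4,6,6,257,5,5,4,6,6,256,5,5],[0,2,6,257,6,257,6,257],[0,2,6,257,5,256,6,257,5,256,6,257,5,256,6,257,5,256],[3,6,6,256,5,5,3,6,6,256,5,5,3,6,6,256,5,5,3,6,6,256,5,5,6,6,4,3,2,3,4,5,5,5,4,3,2,3,4,6,3,2,3,2,0]]
def lam : List ℤ := [(-1),0,0,0,0,0,0,0,(-1),0,0,0,0]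

theorem norm3 {Γ : Type*} [Group Γ] {Z : Subgroup Γ} (hZ : Z ≤ Subgroup.center Γ) {t u : Γ} (h1 : t ^ 3 ∈ Z)
    (h2 : u⁻¹ * t * u * t ∈ Z) : ∃ μ ∈ Z, (t * μ) ^ 3 = 1 ∧ u⁻¹ * (t * μ) * u * (t * μ) = 1 := by
  have e : t ^ 3 * t ^ 3 = (u⁻¹ * t * u * t) ^ 3 :=
    calc _ = (u⁻¹ * t ^ 3 * u) * t ^ 3 := by rw [cj hZ h1]
      _ = (u⁻¹ * t * u * t * t⁻¹) ^ 3 * t ^ 3 := by simp [pow_succ, mul_assoc]
      _ = _ := by rw [(cz hZ h2 t⁻¹).symm.mul_pow]; simp
  generalize ha : t ^ 3 = a at h1 e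
  generalize hb : u⁻¹ * t * u * t = b at h2 e
  have hμ : a⁻¹ * b ∈ Z := mul_mem (inv_mem h1) h2
  refine ⟨_, hμ, ?_, ?_⟩
  · rw [(cz hZ hμ t).mul_pow, ha, (cz hZ h2 a⁻¹).mul_pow, ← e]; simp [pow_succ, mul_assoc]
  · have e2 : (a⁻¹ * b) ^ 2 = b⁻¹ := by
      rw [(cz hZ h2 a⁻¹).mul_pow, inv_pow, pow_two a, e]; simp [pow_succ, mul_assoc]
    generalize a⁻¹ * b = μ at *
    calc _ = u⁻¹ * t * u * t * ((u * t)⁻¹ * μ * (u * t)) * μ := by simp [mul_assoc]
      _ = b * μ ^ 2 := by rw [cj hZ hμ, hb]; simp [pow_succ, mul_assoc]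
      _ = 1 := by rw [e2, mul_inv_cancel]

theorem ev7 {H Γ : Type*} [Group H] [Group Γ] (gen : ℕ → H) (f : H →* Γ) (u : Γ) :
    ev (tokv gen f fun _ => u) [257, 7, 256, 7] = u⁻¹ * f (gen 7) * u * f (gen 7) := by
  simp [tokv, tk, sg, mul_assoc]

theorem lifts {H : Type} [Group H] [Finite H] {gen : ℕ → H} (hM : MB H [])
    (c1 : ∀ h, Abelianization.of h ∈ Subgroup.zpowers (Abelianization.of (gen 7)))
    (c2 : ∀ k : ℤ, Abelianization.of (gen 7) ^ k = 1 → ((3 : ℕ) : ℤ) ∣ k) (p3 : gen 7 ^ 3 = 1)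
    {G Γ : Type} [Group G] [Group Γ] [Finite Γ] {σ : Γ →* G} (hσ : IsStemExtension σ) {φ : H →* G} {u0 : G}
    (h1 : ev (tokv gen φ fun _ => u0) [257, 7, 256, 7] = 1) :
    ∃ f : H →* Γ, (∀ h, σ (f h) = φ h) ∧ ∀ u, σ u = u0 → ev (tokv gen f fun _ => u) [257, 7, 256, 7] = 1 := by
  rw [ev7] at h1
  obtain ⟨u, rfl⟩ := hσ.1 u0
  obtain ⟨t, ht⟩ := hσ.1 (φ (gen 7))
  obtain ⟨μ, m1, m2, m3⟩ := norm3 hσ.2.1 (t := t) (u := u)
    (by rw [MonoidHom.mem_ker, map_pow, ht, ← map_pow, p3, map_one]) (by simpa [MonoidHom.mem_ker, ht] using h1)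
  obtain ⟨f, hf, f7⟩ := exists_lift hM hσ.1 hσ.2.1 φ (t := gen 7) (t' := t * μ)
    (by rw [map_mul, MonoidHom.mem_ker.1 m1, mul_one, ht]) c1 c2 (a := 1) (b := 1) (c := 1) (d := 1)
    (by simp) (by simp) (by simpa using m2) (by simpa using p3)
  refine ⟨f, hf, fun v hv => ?_⟩
  have := conj_congr hσ.2.1 (x := u⁻¹) (x' := v⁻¹) (by simp [hv]) (t * μ)
  simp only [inv_inv] at this
  rw [ev7, f7, ← this, m3]

theorem model : ∃ f : CG.TD4.PG →* Spor.Th,
    (∀ r ∈ R1, ev (tokv CG.TD4.act.gen f fun _ => tauG Spor.Th.edges Spor.Th.extra gl 0) r = 1) ∧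
    ∀ g, ev (tokv CG.TD4.act.gen f fun _ => tauG Spor.Th.edges Spor.Th.extra gl 0) (sbW Thb.iv ws (code g)).1 =
      PresentedGroup.of g :=
  exists_model CG.TD4.bounds CG.TD4.rels CG.TD4.clS CG.TD4.card.ge Thb.h256 (tab := tab)
    (letter_inv (I := [.a, .b, .c, .d, .e]) (by decide +kernel) (sq_of_mem (by decide +kernel))
      (ivX_ge Thb.c0 Thb.c1 (by decide +kernel)))
    (by intro g; cases g <;> rfl) rfl (h1 := h1) (h2 := h2) (by decide +kernel) (by decide +kernel)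
    (by decide +kernel) (by intro g; cases g <;> decide +kernel) (by decide +kernel)

theorem more {Γ : Type*} [Group Γ] {f : CG.TD4.PG →* Γ} {τ : ℕ → Γ}
    (h : ∀ r ∈ R1, ev (tokv CG.TD4.act.gen f τ) r = 1) :
    ∀ r ∈ R1 ++ Tha.ys.map Prod.fst, ev (tokv CG.TD4.act.gen f τ) r = 1 := fun r hr => by
  rcases List.mem_append.1 hr with hr | hr
  · exact h r hr
  · obtain ⟨x, hx, rfl⟩ := List.mem_map.1 hr
    rw [Tha.exp (z := fun _ => 1) hz_one (rels_one (rels := Tha.rels) h (by decide +kernel)) x hx, zv_one]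

theorem sub_rels {Γ : Type*} [Group Γ] {y : ℕ → Γ} {R R' : List (List ℕ)} (h : ∀ r ∈ R, ev y r = 1)
    (e : allL (fun r => anyL (eqL r) R) R' = true) : ∀ r ∈ R', ev y r = 1 := fun r hr => by
  obtain ⟨w, h1, h2⟩ := (anyL_iff _ _).1 ((allL_iff _ _).1 e r hr)
  rw [(eqL_iff _ _).1 h2, h w h1]

theorem finite : Finite Spor.Th := by
  obtain ⟨f, h1, h2⟩ := model
  have : Finite f.range := Finite.of_surjective _ f.rangeRestrict_surjective
  exact finite_of_model h2 (Thb.finite (L := f.range) (z := fun _ => 1)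
    (τ := fun _ => tauG Spor.Th.edges Spor.Th.extra gl 0) (fun _ => one_mem _) hz_one
    (rels_one (rels := Thb.rels) (more h1) (by decide +kernel)) (fun g => ⟨g, rfl⟩)
    (by simp [Thb.lrels]))

theorem ker_eq_bot (Γ : Type) [Group Γ] [Finite Γ] (σ : Γ →* Spor.Th) (hσ : IsStemExtension σ) : σ.ker = ⊥ := by
  obtain ⟨φ, h1, h2⟩ := model
  obtain ⟨f, hf, h7⟩ := lifts (TDd.mb_up Mult.TDd.mb) TDd.cyc TDd.ord TDd.pow_t hσ (h1 _ (by decide +kernel))
  obtain ⟨t, ht⟩ := hσ.1 (tauG Spor.Th.edges Spor.Th.extra gl 0)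
  obtain ⟨t', k1, k2⟩ := normalise hσ.2.1 hf (t := t) (rels := ThT.rels.tail)
    (ht ▸ sub_rels (more h1) (by decide +kernel)) (fun z hz hr => ThT.rel hz (all_cons (h7 t ht) hr))
    (by decide +kernel) (lam := lam) (by decide +kernel)
  exact ker_eq_bot_of_lift CG.TD4.rels Thb.hiv Thb.h256 h2 hσ hf (k1.trans ht)
    (sub_rels (R' := R1) (all_cons (h7 t' (k1.trans ht)) k2) (by decide +kernel)) (hs := h3) (by decide +kernel)
    (by decide +kernel)

end Cfsg.Agent.DC.ThG
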